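import Mathlib
import Cfsg.Agent.Chev.TimDec
import Cfsg.Agent.Loc.MssSyl
import Cfsg.Agent.GT.CoprimeSylow

/-! # Quadratic elements: the groups `U(s)`, transitivity on opposite elements -/

set_option autoImplicit false
open Cfsg Subgroup Module

namespace Cfsg.Agent.Flav.Qd
open Cfsg.Agent.GT Cfsg.Agent.Chev.Tim Cfsg.Agent.Loc.Mss

section Ring
variable (k : Type*) [Field k] {A : Type*} [Ring A] [Algebra k A]

/-- conjugation by a unit -/
def cn (g : Aˣ) : A →ₐ[k] A where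
  toFun x := g * x * (g⁻¹ : Aˣ)
  map_one' := by simp
  map_mul' x y := by simp [mul_assoc]
  map_zero' := by simp
  map_add' x y := by simp [mul_add, add_mul]
  commutes' c := by rw [← Algebra.commutes, mul_assoc]; simp

variable {k} {G : Subgroup Aˣ} {g h : Aˣ} {s t x y : A}

theorem cn_apply (g : Aˣ) (x : A) : cn k g x = g * x * (g⁻¹ : Aˣ) := rfl

theorem cn_mul (g h : Aˣ) (x : A) : cn k (g * h) x = cn k g (cn k h x) := by
  simp [cn_apply, mul_assoc]

theorem cn_one (x : A) : cn k 1 x = x := by simp [cn_apply]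

theorem cn_inv_cn (g : Aˣ) (x : A) : cn k g⁻¹ (cn k g x) = x := by
  rw [← cn_mul, inv_mul_cancel, cn_one]

theorem cn_cn_inv (g : Aˣ) (x : A) : cn k g (cn k g⁻¹ x) = x := by
  rw [← cn_mul, mul_inv_cancel, cn_one]

theorem cn_inj (e : cn k g x = cn k g y) : x = y := by
  rw [← cn_inv_cn (k := k) g x, e, cn_inv_cn]

theorem cn_eq_zero : cn k g x = 0 ↔ x = 0 :=
  ⟨fun e => cn_inj (k := k) (g := g) (by rw [e, map_zero]), fun e => by rw [e, map_zero]⟩

theorem cn_eq_self : cn k g x = x ↔ g * x = x * g := by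
  rw [cn_apply, Units.mul_inv_eq_iff_eq_mul]

theorem cn_inv_of_eq (e : cn k g x = y) : cn k g⁻¹ y = x := by rw [← e, cn_inv_cn]

theorem cn_val (g h : Aˣ) : cn k g (h : A) = (g * h * g⁻¹ : Aˣ) := by simp [cn_apply]

theorem val_conj (e : (h : A) = 1 + x) : ((g * h * g⁻¹ : Aˣ) : A) = 1 + cn k g x := by
  rw [← cn_val (k := k), e, map_add, map_one]

theorem pre_cn (h : Pre x y) (g : Aˣ) : Pre (cn k g x) (cn k g y) := h.conj g

theorem opp_cn (o : Opp s t) (g : Aˣ) : Opp (cn k g s) (cn k g t) :=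
  ⟨by rw [← map_mul, ← map_mul, o.1], by rw [← map_mul, ← map_mul, o.2]⟩

theorem sand_cn : cn k g s * cn k g t * cn k g s ≠ 0 ↔ s * t * s ≠ 0 := by
  rw [← map_mul, ← map_mul, Ne, cn_eq_zero]

theorem qq_cn (hx : x ∈ QQ k G) (hg : g ∈ 𝐍[G]) : cn k g x ∈ QQ k G := by
  refine ⟨by rw [← map_mul, hx.1, map_zero], fun c => ?_⟩
  obtain ⟨u, hu, e⟩ := hx.2 c
  exact ⟨_, conj_mem_of_norm hg hu, by rw [val_conj (k := k) e, map_smul]⟩

theorem cn_uu {u : Aˣ} (e : (u : A) = 1 + x) (hx : x * x = 0) (y : A) :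
    cn k u y = y + (x * y - y * x) - x * y * x := val_conj_of_eq e hx y

theorem comm_of_val {u : Aˣ} (e : (u : A) = 1 + x) : (u : A) * y = y * u ↔ x * y = y * x := by
  rw [e, add_mul, mul_add, one_mul, mul_one, add_right_inj]

theorem opp_smul (o : Opp s t) {c : k} (hc : c ≠ 0) : Opp (c • s) (c⁻¹ • t) := by
  constructor <;> simp only [smul_mul_assoc, mul_smul_comm, smul_smul, o.1, o.2] <;> congr 1 <;>
    field_simp

theorem opp_ne (o : Opp s t) (h : s ≠ 0) : t ≠ 0 := by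
  rintro rfl; exact h (by simpa using o.1.symm)

/-- the Weyl element -/
theorem exists_w (o : Opp s t) (hs : s * s = 0) (ht : t * t = 0) {K : Subgroup Aˣ} (h1 : InU K s)
    (h2 : InU K t) : ∃ w ∈ K, (w : A) = 1 + s - t - (s * t + t * s) ∧
      ((w⁻¹ : Aˣ) : A) = 1 - s + t - (s * t + t * s) := by
  obtain ⟨a, ha, ea⟩ := h1
  obtain ⟨b, hb, eb⟩ := h2
  have : s * (t * s) = s := by rw [← mul_assoc, o.1]
  refine ⟨a * b⁻¹ * a, mul_mem (mul_mem ha (inv_mem hb)) ha, ?_, ?_⟩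
  · rw [Units.val_mul, Units.val_mul, ea, val_inv_of_sq eb ht]
    noncomm_ring [hs, this]
  · rw [mul_inv_rev, mul_inv_rev, inv_inv, Units.val_mul, Units.val_mul, eb, val_inv_of_sq ea hs]
    noncomm_ring [hs, this]

theorem exists_w' (o : Opp s t) (hs : s * s = 0) (ht : t * t = 0) {K : Subgroup Aˣ} (h1 : InU K s)
    (h2 : InU K t) : ∃ w ∈ K, cn k w t = -s := by
  obtain ⟨w, hw, e1, e2⟩ := exists_w o hs ht h1 h2
  refine ⟨w, hw, ?_⟩
  have a1 : (1 + s - t - (s * t + t * s)) * t = s * t := by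
    have : s * t * t = 0 := by rw [mul_assoc, ht, mul_zero]
    simp only [sub_mul, add_mul, one_mul, ht, o.2, this]; abel
  have a2 : s * t * (s * t + t * s) = s * t := by
    rw [mul_add, ← mul_assoc, o.1, mul_assoc, ← mul_assoc t, ht]; simp
  rw [cn_apply, e1, e2, a1, mul_sub, a2, mul_add, mul_sub, o.1, mul_assoc s t t, ht]; simp

variable (k) in
/-- the torus element -/
def hv (s t : A) (c : k) : A := 1 + (c - 1) • (s * t) + (c⁻¹ - 1) • (t * s)

theorem exists_h (o : Opp s t) (hs : s ∈ QQ k G) (ht : t ∈ QQ k G) {c : k} (hc : c ≠ 0) :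
    ∃ h ∈ G, (h : A) = hv k s t c ∧ ((h⁻¹ : Aˣ) : A) = hv k s t c⁻¹ := by
  have key : ∀ c : k, c ≠ 0 → ∃ h ∈ G, (h : A) = hv k s t c := fun c hc => by
    obtain ⟨w, hw, e1, -⟩ := exists_w (opp_smul o hc) (QQ.smul hs c).1 (QQ.smul ht c⁻¹).1
      (hs.2 c) (ht.2 c⁻¹)
    obtain ⟨w', hw', -, e2⟩ := exists_w o hs.1 ht.1 (QQ.inU hs) (QQ.inU ht)
    refine ⟨w * w'⁻¹, mul_mem hw (inv_mem hw'), ?_⟩
    have a1 : ∀ a, s * (s * a) = 0 := fun a => by rw [← mul_assoc, hs.1, zero_mul]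
    have a2 : ∀ a, t * (t * a) = 0 := fun a => by rw [← mul_assoc, ht.1, zero_mul]
    have a3 : s * (t * s) = s := by rw [← mul_assoc, o.1]
    have a4 : t * (s * t) = t := by rw [← mul_assoc, o.2]
    rw [Units.val_mul, e1, e2, hv]
    simp only [smul_mul_assoc, mul_smul_comm, smul_smul, mul_inv_cancel₀ hc, inv_mul_cancel₀ hc,
      one_smul, mul_add, add_mul, mul_sub, sub_mul, mul_one, one_mul, mul_assoc, a1, a2, a3, a4,
      hs.1, ht.1, mul_zero, smul_zero, sub_smul]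
    abel
  obtain ⟨h, hh, e⟩ := key c hc
  refine ⟨h, hh, e, val_inv_eq ?_⟩
  have a1 : ∀ a, s * (s * a) = 0 := fun a => by rw [← mul_assoc, hs.1, zero_mul]
  have a2 : ∀ a, t * (t * a) = 0 := fun a => by rw [← mul_assoc, ht.1, zero_mul]
  have a4 : t * (s * t) = t := by rw [← mul_assoc, o.2]
  have a3 : s * (t * s) = s := by rw [← mul_assoc, o.1]
  rw [e, hv, hv]
  simp only [smul_mul_assoc, mul_smul_comm, smul_smul, inv_inv, mul_add, add_mul, mul_one, one_mul,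
    mul_assoc, a1, a2, a3, a4, mul_zero, smul_zero, add_zero, smul_add]
  have b1 : (c - 1) * (c⁻¹ - 1) = -(c - 1) - (c⁻¹ - 1) := by field_simp; ring
  rw [mul_comm (c⁻¹ - 1), b1]
  module

end Ring

section Prime
variable {p : ℕ} [Fact p.Prime] {A : Type*} [Ring A] [Algebra (ZMod p) A] {G : Subgroup Aˣ}
  {x y α β β' : A}

theorem cast_p : (p : A) = 0 := by
  rw [← map_natCast (algebraMap (ZMod p) A), ZMod.natCast_self, map_zero]

theorem qq_of_inU (hx : x * x = 0) (h : InU G x) : x ∈ QQ (ZMod p) G := by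
  have key : ∀ n : ℕ, InU G ((n : ZMod p) • x) := fun n => by
    induction n with
    | zero => simpa using InU.zero
    | succ n ih =>
      rw [Nat.cast_succ, add_smul, one_smul]
      exact ih.add h (by rw [smul_mul_assoc, hx, smul_zero])
  exact ⟨hx, fun c => by simpa using key c.val⟩

theorem qq_of_smul {c : ZMod p} (hc : c ≠ 0) (hx : x * x = 0) (h : InU G (c • x)) :
    x ∈ QQ (ZMod p) G := by
  have := QQ.smul (qq_of_inU (by rw [smul_mul_assoc, mul_smul_comm, hx]; simp) h) c⁻¹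
  rwa [smul_smul, inv_mul_cancel₀ hc, one_smul] at this

theorem cast_ne (hp : 5 ≤ p) {n : ℕ} (h0 : n ≠ 0) (h : n < 5) : (n : ZMod p) ≠ 0 := by
  rw [Ne, ZMod.natCast_eq_zero_iff]
  exact fun hd => by have := Nat.le_of_dvd (by omega) hd; omega

theorem two_ne (hp : 5 ≤ p) : (2 : ZMod p) ≠ 0 := by exact_mod_cast cast_ne hp (n := 2) (by simp) (by simp)

theorem three_ne (hp : 5 ≤ p) : (3 : ZMod p) ≠ 0 := by
  exact_mod_cast cast_ne hp (n := 3) (by simp) (by simp)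

theorem three_lt (hp : 5 ≤ p) : 3 < ENat.card (ZMod p) := by
  rw [ENat.card_eq_coe_natCard, Nat.card_zmod]; exact_mod_cast (by omega : 3 < p)

theorem pow_p_eq_one (hp : 5 ≤ p) {u : Aˣ} (e : (u : A) = 1 + x) (hx : x * x * x = 0) :
    u ^ p = 1 := by
  apply Units.ext
  obtain ⟨r, hr⟩ := (Commute.one_left x).exists_add_pow_prime_eq (Fact.out : p.Prime)
  have : x ^ p = 0 := pow_eq_zero_of_le (m := 3) (by omega) (by rw [pow_succ, pow_two, hx])
  rw [Units.val_pow_eq_pow_val, e, hr, this, cast_p]; simp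

theorem exists_g (o : Opp α β) (o' : Opp α β') (h1 : α ∈ QQ (ZMod p) G) (h2 : β ∈ QQ (ZMod p) G)
    (h3 : β' ∈ QQ (ZMod p) G) (hz : α * β + β * α = α * β' + β' * α) {a : A}
    (ha : a = α * β - α * β') : ∃ g ∈ G, (g : A) = (1 - β * a * β) * (1 - a) := by
  obtain ⟨w, hw, -, e1⟩ := exists_w o h1.1 h2.1 (QQ.inU h1) (QQ.inU h2)
  obtain ⟨w', hw', e2, -⟩ := exists_w o' h1.1 h3.1 (QQ.inU h1) (QQ.inU h3)
  have ha' : a = β' * α - β * α := by rw [ha, sub_eq_sub_iff_add_eq_add, hz, add_comm]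
  have b1 : α * a = 0 := by rw [ha, mul_sub, ← mul_assoc, ← mul_assoc, h1.1]; simp
  have b2 : a * α = 0 := by rw [ha, sub_mul, o.1, o'.1, sub_self]
  have b3 : a * a = 0 := by nth_rw 2 [ha]; rw [mul_sub, ← mul_assoc, ← mul_assoc, b2]; simp
  have b4 : α * β * a = a := by rw [ha, mul_sub, ← mul_assoc, ← mul_assoc, o.1]
  have b5 : a * β * α = a := by
    rw [ha', sub_mul, sub_mul, mul_assoc β', mul_assoc β', o.1, o.2]
  have b6 : β' = β + a * β - β * a - a * β * a := by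
    have c1 : a * β = β' * α * β - β := by rw [ha', sub_mul, o.2]
    have c2 : β * a = β - β * α * β' := by rw [ha, mul_sub, ← mul_assoc, o.2, mul_assoc]
    have c3 : a * β * a = β' * a - β * a := by
      rw [c1, sub_mul, mul_assoc β', mul_assoc β', b4]
    have c4 : β' * a = β' * α * β - β' := by rw [ha, mul_sub, ← mul_assoc, ← mul_assoc, o'.2]
    rw [c3, c4, c1]; abel
  refine ⟨w⁻¹ * w', mul_mem (inv_mem hw) hw', ?_⟩
  rw [Units.val_mul, e1, e2, ← hz, b6]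
  have a1 : ∀ u, α * (α * u) = 0 := fun u => by rw [← mul_assoc, h1.1, zero_mul]
  have a2 : ∀ u, β * (β * u) = 0 := fun u => by rw [← mul_assoc, h2.1, zero_mul]
  have a3 : ∀ u, α * (β * (α * u)) = α * u := fun u => by rw [← mul_assoc, ← mul_assoc, o.1]
  have a4 : ∀ u, β * (α * (β * u)) = β * u := fun u => by rw [← mul_assoc, ← mul_assoc, o.2]
  have a5 : ∀ u, α * (a * u) = 0 := fun u => by rw [← mul_assoc, b1, zero_mul]
  have a6 : ∀ u, α * (β * (a * u)) = a * u := fun u => by rw [← mul_assoc, ← mul_assoc, b4]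
  have a3' : α * (β * α) = α := by rw [← mul_assoc, o.1]
  have a4' : β * (α * β) = β := by rw [← mul_assoc, o.2]
  have a6' : α * (β * a) = a := by rw [← mul_assoc, b4]
  simp only [mul_add, add_mul, mul_sub, sub_mul, mul_one, one_mul, mul_assoc, a1, a2, a3, a4, a5,
    a6, a3', a4', a6', h1.1, h2.1, b1, mul_zero]
  abel

/-- two opposite elements with the same involution are conjugate under the root group -/
theorem opp_same (hp : 5 ≤ p) (o : Opp α β) (o' : Opp α β') (h1 : α ∈ QQ (ZMod p) G)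
    (h2 : β ∈ QQ (ZMod p) G) (h3 : β' ∈ QQ (ZMod p) G) (hz : α * β + β * α = α * β' + β' * α) :
    ∃ a ∈ QQ (ZMod p) G, Pre a α ∧ β' = β + (a * β - β * a) - a * β * a := by
  obtain ⟨a, ha⟩ : ∃ a, a = α * β - α * β' := ⟨_, rfl⟩
  have ha' : a = β' * α - β * α := by rw [ha, sub_eq_sub_iff_add_eq_add, hz, add_comm]
  have pa : Pre a α := ⟨⟨β' - β, by rw [ha', sub_mul]⟩, β - β', by rw [ha, mul_sub]⟩
  have b3 : a * a = 0 := pa.mul_pre pa h1.1
  have b4 : α * β * a = a := pa.eq_mul o.1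
  have t2 := two_ne hp
  obtain ⟨g, hg, e⟩ := exists_g o o' h1 h2 h3 hz ha
  obtain ⟨g', hg', e'⟩ := exists_g (opp_smul o t2) (opp_smul o' t2) (QQ.smul h1 2) (QQ.smul h2 2⁻¹)
    (QQ.smul h3 2⁻¹) (by
      simp only [smul_mul_assoc, mul_smul_comm, smul_smul, mul_inv_cancel₀ t2, inv_mul_cancel₀ t2,
        one_smul, hz]) (a := a) (by
      simp only [smul_mul_assoc, mul_smul_comm, smul_smul, inv_mul_cancel₀ t2, one_smul, ha])
  obtain ⟨b, hb⟩ : ∃ b, b = β * a * β := ⟨_, rfl⟩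
  have bb : b * b = 0 := (hb ▸ Pre.sandwich a β).mul_pre (hb ▸ Pre.sandwich a β) h2.1
  rw [← hb] at e
  rw [smul_mul_assoc, smul_mul_assoc, mul_smul_comm, ← hb, smul_smul] at e'
  have ei : ((g⁻¹ : Aˣ) : A) = (1 + a) * (1 + b) := val_inv_eq (by
    rw [e, mul_assoc, ← mul_assoc (1 - a)]; noncomm_ring [b3, bb])
  have hb' : b ∈ QQ (ZMod p) G := by
    refine qq_of_smul (c := 3 * (2⁻¹ * 2⁻¹)) (mul_ne_zero (three_ne hp) (by simp [t2])) bb
      ⟨g' * g⁻¹, mul_mem hg' (inv_mem hg), ?_⟩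
    have c1 : (1 - a) * (1 + a) = 1 := by noncomm_ring [b3]
    rw [Units.val_mul, e', ei, mul_assoc, ← mul_assoc (1 - a), c1, one_mul]
    simp only [mul_add, sub_mul, mul_one, one_mul, smul_mul_assoc, bb, smul_zero]
    have : (3 * (2⁻¹ * 2⁻¹) : ZMod p) = 1 - 2⁻¹ * 2⁻¹ := by field_simp; norm_num
    rw [this]; module
  have ha2 : -a ∈ QQ (ZMod p) G := by
    refine qq_of_inU (by simp [b3]) ⟨uu b bb * g, mul_mem (QQ.uu_mem hb') hg, ?_⟩
    rw [Units.val_mul, val_uu, e, ← mul_assoc]; noncomm_ring [bb]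
  refine ⟨a, by simpa using QQ.neg ha2, pa, ?_⟩
  have c1 : a * β = β' * α * β - β := by rw [ha', sub_mul, o.2]
  have c3 : a * β * a = β' * a - β * a := by rw [c1, sub_mul, mul_assoc β', mul_assoc β', b4]
  have c4 : β' * a = β' * α * β - β' := by rw [ha, mul_sub, ← mul_assoc, ← mul_assoc, o'.2]
  rw [c3, c4, c1]; abel

end Prime

section End
variable {k : Type*} [Field k] {M : Type*} [AddCommGroup M] [Module k M]
  {G : Subgroup (End k M)ˣ} {g u : (End k M)ˣ} {s t x y a : End k M}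

theorem TT_left (hx : x ∈ TT s) (h : a * s = s * a) : a * x ∈ TT s := by
  refine ⟨by rw [mul_assoc, hx.1, mul_zero], by rw [← mul_assoc, ← h, mul_assoc, hx.2.1, mul_zero],
    fun v hv => ?_⟩
  obtain ⟨w, hw⟩ := hx.2.2 v hv
  exact ⟨a w, by rw [Module.End.mul_apply, ← hw, ← Module.End.mul_apply, ← h]; rfl⟩

theorem TT_right (hx : x ∈ TT s) (h : a * s = s * a) : x * a ∈ TT s := by
  refine ⟨by rw [mul_assoc, h, ← mul_assoc, hx.1, zero_mul], by rw [← mul_assoc, hx.2.1, zero_mul],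
    fun v hv => hx.2.2 _ ?_⟩
  rw [← Module.End.mul_apply, ← h, Module.End.mul_apply, hv, map_zero]

theorem comm_of_TT (h : (u : End k M) - 1 ∈ TT s) : (u : End k M) * s = s * u := by
  have h1 := h.1
  have h2 := h.2.1
  rw [sub_mul, one_mul, sub_eq_zero] at h1
  rw [mul_sub, mul_one, sub_eq_zero] at h2
  rw [h1, h2]

theorem TT_of_pre (h : Pre s t) (h' : Pre t s) (hx : x ∈ TT s) : x ∈ TT t :=
  ⟨h'.zero_mul hx.1, h'.mul_zero hx.2.1, fun v hv =>
    (pre_iff.1 h).2 (hx.2.2 v ((pre_iff.1 h).1 hv))⟩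

theorem TT_cn (hx : x ∈ TT s) (g : (End k M)ˣ) : cn k g x ∈ TT (cn k g s) := by
  refine ⟨by rw [← map_mul, hx.1, map_zero], by rw [← map_mul, hx.2.1, map_zero], fun v hv => ?_⟩
  have hi : Function.Injective (g : End k M) := ((Module.End.isUnit_iff _).1 g.isUnit).1
  obtain ⟨w, hw⟩ := hx.2.2 ((g⁻¹ : (End k M)ˣ).1 v) (hi (by rw [map_zero]; exact hv))
  refine ⟨g.1 w, ?_⟩
  rw [← Module.End.mul_apply, cn_apply, cn_apply, Units.inv_mul_cancel_right,
    Module.End.mul_apply, hw]; rfl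

/-- a degree zero element of `TT s` vanishes -/
theorem TT_eq_zero (o : Opp s t) (hx : x ∈ TT s) (h : x * t = t * x) : x = 0 := by
  have h1 : s * t * x = 0 := by rw [mul_assoc, ← h, ← mul_assoc, hx.2.1, zero_mul]
  have h2 : x * t * s = 0 := by rw [h, mul_assoc, hx.1, mul_zero]
  rw [TT_decomp hx o.1, h1, h2]; simp

variable (G s) in
/-- the subgroup `U(s)` -/
def UU : Subgroup (End k M)ˣ where
  carrier := {g | g ∈ G ∧ (g : End k M) - 1 ∈ TT s}
  one_mem' := ⟨one_mem _, by simp⟩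
  mul_mem' := by
    rintro g h ⟨hg, h1⟩ ⟨hh, h2⟩
    refine ⟨mul_mem hg hh, ?_⟩
    rw [show ((g * h : (End k M)ˣ) : End k M) - 1 = g * (h - 1) + (g - 1) by
      rw [Units.val_mul]; noncomm_ring]
    exact add_mem (TT_left h2 (comm_of_TT h1)) h1
  inv_mem' := by
    rintro g ⟨hg, h1⟩
    refine ⟨inv_mem hg, ?_⟩
    rw [show ((g⁻¹ : (End k M)ˣ) : End k M) - 1 = -((g⁻¹ : (End k M)ˣ) * (g - 1)) by
      rw [mul_sub]; simp]
    exact neg_mem (TT_left h1 (Commute.units_inv_left (comm_of_TT h1)))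

theorem UU_le : UU G s ≤ G := fun _ h => h.1

theorem cn_UU (hu : u ∈ UU G s) : cn k u s = s := cn_eq_self.2 (comm_of_TT hu.2)

theorem mem_UU (hx : x ∈ QQ k G) (h : x ∈ TT s) (e : (u : End k M) = 1 + x) : u ∈ UU G s :=
  ⟨QQ.mem_of_eq hx e, by rwa [e, add_sub_cancel_left]⟩

theorem inU_UU (hx : x ∈ QQ k G) (h : x ∈ TT s) : InU (UU G s) x :=
  ⟨uu x hx.1, mem_UU hx h rfl, rfl⟩

theorem UU_of_pre (h : Pre s t) (h' : Pre t s) : UU G s ≤ UU G t :=
  fun _ hu => ⟨hu.1, TT_of_pre h h' hu.2⟩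

theorem conj_mem_UU (hg : g ∈ 𝐍[G]) (hu : u ∈ UU G s) : g * u * g⁻¹ ∈ UU G (cn k g s) :=
  ⟨conj_mem_of_norm hg hu.1, by
    rw [← cn_val (k := k), ← map_one (cn k g), ← map_sub]; exact TT_cn hu.2 g⟩

variable [FiniteDimensional k M]

theorem rk_cn (g : (End k M)ˣ) (x : End k M) : rk (cn k g x) = rk x := rk_conj g x

theorem ll_cn (hs : s ∈ LL G) (hg : g ∈ 𝐍[G]) : cn k g s ∈ LL G :=
  LL.of_le hs (qq_cn hs.1 hg) (mt cn_eq_zero.1 hs.2.1) (rk_cn g s).le

theorem pre_cn_symm (h : Pre (cn k g s) s) : Pre s (cn k g s) := h.symm_of_rk (rk_cn g s).ge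

theorem norm_UU (hg : g ∈ 𝐍[G]) (h : Pre (cn k g s) s) : g ∈ 𝐍[UU G s] := by
  have h' := pre_cn_symm h
  have h1 := pre_cn (k := k) h g⁻¹
  have h2 := pre_cn (k := k) h' g⁻¹
  rw [cn_inv_cn] at h1 h2
  refine mem_normalizer_iff.2 fun u => ⟨fun hu => UU_of_pre h h' (conj_mem_UU hg hu), fun hu => ?_⟩
  have := UU_of_pre h2 h1 (conj_mem_UU (inv_mem hg) hu)
  simpa [mul_assoc] using this

theorem ll_of_opp (hs : s ∈ LL G) (ht : t ∈ QQ k G) (o : Opp s t) : t ∈ LL G :=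
  LL.of_le hs ht (opp_ne o hs.2.1) (o.2 ▸ (rk_mul_le_left _ _).trans (rk_mul_le_right _ _))

/-- a quadratic element normalizing a root subgroup centralizes it -/
theorem comm_of_norm (h2 : (2 : k) ≠ 0) (hx : x ∈ LL G) (ha : a ∈ QQ k G)
    (h1 : Pre (x + (a * x - x * a) - a * x * a) x) (h1' : Pre (x - (a * x - x * a) - a * x * a) x) :
    a * x = x * a := by
  have m1 := QQ.conj hx.1 (QQ.uu_mem ha)
  have m2 := QQ.conj hx.1 (QQ.uu_mem (QQ.neg ha))
  rw [val_conj_of_eq (val_uu _) ha.1] at m1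
  rw [val_conj_of_eq (val_uu _) (QQ.neg ha).1,
    show x + (-a * x - x * -a) - -a * x * -a = x - (a * x - x * a) - a * x * a by noncomm_ring] at m2
  have sub : ∀ {y z}, y ∈ QQ k G ∧ Pre y x → z ∈ QQ k G ∧ Pre z x → y - z ∈ QQ k G ∧ Pre (y - z) x :=
    fun hy hz => ⟨QQ.sub hy.1 hz.1 (hy.2.mul_pre hz.2 hx.1.1) (hz.2.mul_pre hy.2 hx.1.1), hy.2.sub hz.2⟩
  have half : ∀ {y}, y + y ∈ QQ k G ∧ Pre (y + y) x → y ∈ QQ k G ∧ Pre y x := fun {y} hy => by
    have e : (2 : k)⁻¹ • (y + y) = y := by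
      rw [← two_smul k, smul_smul, inv_mul_cancel₀ h2, one_smul]
    exact e ▸ ⟨QQ.smul hy.1 _, hy.2.smul _⟩
  have hy : a * x - x * a ∈ QQ k G ∧ Pre (a * x - x * a) x := half (by
    convert sub ⟨m1, h1⟩ ⟨m2, h1'⟩ using 2 <;> abel)
  have hw : a * x * a ∈ QQ k G ∧ Pre (a * x * a) x := by
    convert sub (sub ⟨hx.1, Pre.refl x⟩ ⟨m1, h1⟩) (sub ⟨QQ.zero, Pre.zero x⟩ hy) using 2 <;> abel
  have w0 : a * x * a = 0 := by
    by_contra h0
    exact h0 (by rw [(LL.pre_symm hx hw.1 h0 hw.2).zero_mul (y := a)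
      (by rw [← mul_assoc, ← mul_assoc, ha.1]; simp), zero_mul])
  by_contra h0
  have p1 := LL.pre_symm hx hy.1 (sub_ne_zero.2 h0) hy.2
  rw [p1.zero_mul (y := a) (by rw [mul_sub, ← mul_assoc, ← mul_assoc, ha.1, w0]; simp),
    p1.mul_zero (y := a) (by rw [sub_mul, w0, mul_assoc, ha.1]; simp)] at h0
  exact h0 rfl

theorem comm_of_norm' (h2 : (2 : k) ≠ 0) (hx : x ∈ LL G) (ha : a ∈ QQ k G)
    (e : (u : End k M) = 1 + a) (h1 : Pre (cn k u x) x) : a * x = x * a := by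
  have h3 := pre_cn (k := k) (pre_cn_symm h1) u⁻¹
  rw [cn_inv_cn, cn_uu (x := -a) (by rw [val_inv_of_sq e ha.1, sub_eq_add_neg]) (by simp [ha.1]),
    show x + (-a * x - x * -a) - -a * x * -a = x - (a * x - x * a) - a * x * a by noncomm_ring] at h3
  rw [cn_uu e ha.1] at h1
  exact comm_of_norm h2 hx ha h1 h3

end End

section PrimeEnd
variable {p : ℕ} [Fact p.Prime] {M : Type*} [AddCommGroup M] [Module (ZMod p) M]
  {G D : Subgroup (End (ZMod p) M)ˣ} {α β β' : End (ZMod p) M}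

theorem pg_UU (hp : 5 ≤ p) : IsPGroup p (UU G α) :=
  pg_iff.2 fun u hu => ⟨1, by
    rw [pow_one]
    exact pow_p_eq_one hp (x := u.1 - 1) (by simp) (TT_triple hu.2 hu.2 hu.2)⟩

/-- `U(α)` is transitive on the elements opposite to `α` -/
theorem opp_trans (hp : 5 ≤ p) (o : Opp α β) (o' : Opp α β') (h1 : α ∈ QQ (ZMod p) G)
    (h2 : β ∈ QQ (ZMod p) G) (h3 : β' ∈ QQ (ZMod p) G) :
    ∃ u ∈ UU G α, cn (ZMod p) u β = β' := by
  obtain ⟨i, hi, ei, ii⟩ := o.exists_inv h1 h2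
  obtain ⟨j, hj, ej, jj⟩ := o'.exists_inv h1 h3
  have z1 : ∀ {γ}, Opp α γ → (α * γ + γ * α) * α = α := fun {γ} o => by
    rw [add_mul, o.1, mul_assoc, h1.1]; simp
  have z2 : ∀ {γ}, Opp α γ → α * (α * γ + γ * α) = α := fun {γ} o => by
    rw [mul_add, ← mul_assoc, ← mul_assoc, o.1, h1.1]; simp
  have z3 : ∀ γ v, α v = 0 → (α * γ + γ * α) v = α (γ v) := fun γ v hv => by
    simp [hv]
  have hy : j * i ∈ UU G α := by
    refine ⟨mul_mem hj hi, ?_, ?_, fun v hv => ?_⟩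
    · have e1 : i.1 * α = -α := by rw [ei, sub_mul, sub_mul, z1 o]; simp
      have e2 : j.1 * α = -α := by rw [ej, sub_mul, sub_mul, z1 o']; simp
      rw [Units.val_mul, sub_mul, mul_assoc, e1, mul_neg, e2]; simp
    · have e1 : α * i.1 = -α := by rw [ei, mul_sub, mul_sub, z2 o]; simp
      have e2 : α * j.1 = -α := by rw [ej, mul_sub, mul_sub, z2 o']; simp
      rw [Units.val_mul, mul_sub, ← mul_assoc, e2, neg_mul, e1]; simp
    · have z4 : (α * β' + β' * α) (α (β v)) = α (β v) := LinearMap.congr_fun (z1 o') (β v)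
      rw [Units.val_mul, ei, ej]
      simp only [LinearMap.sub_apply, Module.End.mul_apply, Module.End.one_apply, z3 _ v hv,
        map_sub, z4]
      exact ⟨β v + β v - β' v - β' v, by simp only [map_sub, map_add]; abel⟩
  obtain ⟨m, hm⟩ := (Fact.out : p.Prime).odd_of_ne_two (by omega)
  have yp : (j * i) ^ p = 1 := pow_p_eq_one hp (x := (j * i).1 - 1) (by simp)
    (TT_triple hy.2 hy.2 hy.2)
  have c1 : i * (j * i) * i⁻¹ = (j * i)⁻¹ := by rw [mul_inv_rev, ii, jj, mul_assoc, mul_assoc,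
    show i * i = 1 from by nth_rw 1 [← ii]; simp, mul_one]
  have c2 : (j * i) ^ (m + 1) * i * ((j * i) ^ (m + 1))⁻¹ = j := by
    rw [← inv_pow, ← c1, conj_pow, ← mul_assoc, ← mul_assoc, mul_assoc _ i i,
      show i * i = 1 from by nth_rw 1 [← ii]; simp, mul_one, ← pow_add,
      show m + 1 + (m + 1) = p + 1 by omega, pow_succ, yp, one_mul, mul_inv_cancel_right]
  have hu := pow_mem hy (m + 1)
  generalize (j * i) ^ (m + 1) = u at *
  have c3 := congrArg Units.val c2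
  rw [← cn_val (k := ZMod p), ei, ej, map_sub, map_sub, map_one, map_add, map_mul, map_mul,
    cn_UU hu, sub_sub, sub_sub, sub_right_inj, ← two_smul (ZMod p), ← two_smul (ZMod p)] at c3
  have o1 := opp_cn (k := ZMod p) o u
  rw [cn_UU hu] at o1
  obtain ⟨a, ha, pa, e⟩ := opp_same hp o1 o' h1 (QQ.conj h2 hu.1) h3
    (smul_right_injective _ (two_ne hp) c3)
  exact ⟨uu a ha.1 * u, mul_mem (mem_UU ha (pa.mem_TT h1.1) rfl) hu, by
    rw [cn_mul, cn_uu (val_uu _) ha.1, ← e]⟩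

variable [Finite M]

theorem fin_units : Finite (End (ZMod p) M)ˣ := by
  haveI : Finite (End (ZMod p) M) := Finite.of_injective _ DFunLike.coe_injective
  infer_instance

/-- a `p'`-group centralizing `α` centralizes an opposite element -/
theorem opp_cent (hp : 5 ≤ p) (o : Opp α β) (h1 : α ∈ QQ (ZMod p) G) (h2 : β ∈ QQ (ZMod p) G)
    (hD : D ≤ 𝐍[G]) (hc : (Nat.card D).Coprime p) (hα : ∀ d ∈ D, cn (ZMod p) d α = α) :
    ∃ β' ∈ QQ (ZMod p) G, Opp α β' ∧ ∀ d ∈ D, cn (ZMod p) d β' = β' := by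
  haveI := fin_units (p := p) (M := M)
  obtain ⟨u, hu, hc⟩ := CopAct.exists_conj_mem_centralizer (A := D) (K := UU G α)
    (fun d hd => norm_UU (hD hd) (by rw [hα d hd]; exact Pre.refl _))
    (CopAct.coprime_of_isPGroup_right hc (pg_UU hp))
    (Or.inr (CopAct.isSolvable_of_isPGroup (pg_UU hp))) (x := uu β h2.1) (fun d hd => by
      have o1 := opp_cn (k := ZMod p) o d
      rw [hα d hd] at o1
      obtain ⟨u, hu, e⟩ := opp_trans hp o o1 h1 h2 (qq_cn h2 (hD hd))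
      exact ⟨u, hu, Units.ext (by
        rw [val_conj (k := ZMod p) (val_uu _), val_conj (k := ZMod p) (val_uu _), e])⟩)
  have o1 := opp_cn (k := ZMod p) o u
  rw [cn_UU hu] at o1
  refine ⟨_, QQ.conj h2 hu.1, o1, fun d hd => cn_eq_self.2 ?_⟩
  have := congrArg Units.val (mem_cent.1 hc d hd)
  rw [Units.val_mul, Units.val_mul] at this
  exact ((comm_of_val (val_conj (k := ZMod p) (val_uu _))).1 this.symm).symm

end PrimeEnd

end Cfsg.Agent.Flav.Qd
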