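import Mathlib
import Cfsg.Agent.Flav.QuadA
import Cfsg.Agent.GT.PGroupBasic

/-! # Quadratic elements: existence of opposite elements, classes of root elements -/

set_option autoImplicit false
open Cfsg Subgroup Module

namespace Cfsg.Agent.Flav.Qd
open Cfsg.Agent.GT Cfsg.Agent.Chev.Tim Cfsg.Agent.Loc.Mss

section Ring
variable (k : Type*) [Field k] {A : Type*} [Ring A] [Algebra k A]

/-- every nonzero quadratic element has an opposite one -/
def HasOpp (G : Subgroup Aˣ) : Prop := ∀ x ∈ QQ k G, x ≠ 0 → ∃ y ∈ QQ k G, Opp x y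

/-- the centralizer in `G` of a set of ring elements -/
def fixG (G : Subgroup Aˣ) (X : Set A) : Subgroup Aˣ where
  carrier := {g | g ∈ G ∧ ∀ x ∈ X, cn k g x = x}
  one_mem' := ⟨one_mem _, fun x _ => cn_one x⟩
  mul_mem' := fun hg hh => ⟨mul_mem hg.1 hh.1, fun x hx => by rw [cn_mul, hh.2 x hx, hg.2 x hx]⟩
  inv_mem' := fun hg => ⟨inv_mem hg.1, fun x hx => cn_inv_of_eq (hg.2 x hx)⟩

variable {k} {G N : Subgroup Aˣ} {X : Set A} {x y : A}

theorem fixG_le : fixG k G X ≤ G := fun _ h => h.1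

theorem qq_fixG (hx : x ∈ QQ k G) (h : ∀ y ∈ X, x * y = y * x) : x ∈ QQ k (fixG k G X) :=
  ⟨hx.1, fun c => ⟨uu _ (QQ.smul hx c).1, ⟨QQ.uu_mem (QQ.smul hx c), fun y hy => cn_eq_self.2
    ((comm_of_val (val_uu _)).2 (by rw [smul_mul_assoc, mul_smul_comm, h y hy]))⟩, rfl⟩⟩

theorem comm_of_fixG (hx : x ∈ QQ k (fixG k G X)) (hy : y ∈ X) : x * y = y * x :=
  (comm_of_val (val_uu hx.1)).1 (cn_eq_self.1 ((QQ.uu_mem hx).2 y hy))

theorem norm_fixG (hN : N ≤ 𝐍[G]) (h : ∀ g ∈ N, ∀ x ∈ X, cn k g x ∈ X) : N ≤ 𝐍[fixG k G X] := by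
  refine norm_of_forall_cj_le fun g hg => cj_le_iff.2 fun u hu =>
    ⟨conj_mem_of_norm (hN hg) hu.1, fun x hx => ?_⟩
  rw [cn_mul, cn_mul, hu.2 _ (h _ (inv_mem hg) x hx), cn_cn_inv]

theorem ne_comm_of_opp (o : Opp x y) (hx : x * x = 0) (h0 : x ≠ 0) : x * y ≠ y * x := fun e =>
  h0 (by rw [← o.1, e, mul_assoc, hx, mul_zero])

end Ring

section End
variable {k : Type*} [Field k] {M : Type*} [AddCommGroup M] [Module k M] [FiniteDimensional k M]
  {G K : Subgroup (End k M)ˣ} {g u : (End k M)ˣ} {s t x y a : End k M}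

omit [FiniteDimensional k M] in
theorem exists_ll (hx : x ∈ QQ k G) (h0 : x ≠ 0) : ∃ s, s ∈ LL G := by
  obtain ⟨s, ⟨hs, hs0⟩, hmin⟩ := (measure rk).wf.has_min {y | y ∈ QQ k G ∧ y ≠ 0} ⟨x, hx, h0⟩
  exact ⟨s, hs, hs0, fun y hy hy0 => not_lt.1 (hmin y ⟨hy, hy0⟩)⟩

theorem HasOpp.ll (hG : HasOpp k G) (hs : s ∈ LL G) : ∃ t ∈ LL G, Opp s t := by
  obtain ⟨t, ht, o⟩ := hG s hs.1 hs.2.1
  exact ⟨t, ll_of_opp hs ht o, o⟩

variable (G) in
/-- the connected components of the opposition graph -/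
def Rel (s x : End k M) : Prop := Relation.ReflTransGen (fun a b => b ∈ LL G ∧ a * b * a ≠ 0) s x

omit [FiniteDimensional k M] in
theorem Rel.refl (s : End k M) : Rel G s s := Relation.ReflTransGen.refl

omit [FiniteDimensional k M] in
theorem Rel.trans (h : Rel G s x) (h' : Rel G x y) : Rel G s y := Relation.ReflTransGen.trans h h'

omit [FiniteDimensional k M] in
theorem Rel.of_ne (hx : x ∈ LL G) (h : s * x * s ≠ 0) : Rel G s x :=
  Relation.ReflTransGen.single ⟨hx, h⟩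

omit [FiniteDimensional k M] in
theorem Rel.ll (h : Rel G s x) (hs : s ∈ LL G) : x ∈ LL G := by
  induction h with
  | refl => exact hs
  | tail _ h _ => exact h.1

omit [FiniteDimensional k M] in
theorem Rel.of_opp (ht : t ∈ LL G) (o : Opp t s) : s * t * s ≠ 0 := by
  rw [o.2]; exact opp_ne o ht.2.1

theorem Rel.cn (h : Rel G s x) (hg : g ∈ 𝐍[G]) : Rel G (cn k g s) (cn k g x) := by
  induction h with
  | refl => exact Rel.refl _
  | tail _ h ih => exact ih.trans (Rel.of_ne (ll_cn h.1 hg) (sand_cn.2 h.2))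

variable (h2 : (2 : k) ≠ 0) (h3 : 3 < ENat.card k)
include h2

theorem sand_symm (hs : s ∈ LL G) (ht : t ∈ QQ k G) (h : s * t * s ≠ 0) : t * s * t ≠ 0 :=
  fun e => h (LL.u_symm h2 ht hs e)

theorem Rel.symm (hs : s ∈ LL G) (h : Rel G s x) : Rel G x s := by
  induction h with
  | refl => exact Rel.refl _
  | tail h' h ih =>
    exact (Rel.of_ne (Rel.ll h' hs) (sand_symm h2 (Rel.ll h' hs) h.1.1 h.2)).trans ih

include h3

theorem sand_pre (hs : s ∈ LL G) (ht : t ∈ LL G) (hy : y ∈ LL G) (p : Pre y t) (h : s * t * s ≠ 0) :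
    s * y * s ≠ 0 := fun e => h (LL.u_of_pre h2 h3 hs hy e ht.1 (LL.pre_symm ht hy.1 hy.2.1 p))

theorem sand_pre' (hs : s ∈ LL G) (ht : t ∈ LL G) (hy : y ∈ LL G) (p : Pre y s) (h : s * t * s ≠ 0) :
    y * t * y ≠ 0 :=
  sand_symm h2 ht hy.1 (sand_pre h2 h3 ht hs hy p (sand_symm h2 hs ht.1 h))

theorem Rel.of_pre (hG : HasOpp k G) (hs : s ∈ LL G) (hx : x ∈ LL G) (p : Pre x s) : Rel G s x := by
  obtain ⟨t, ht, o⟩ := hG.ll hs
  exact (Rel.of_ne ht (Rel.of_opp ht o.symm)).trans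
    (Rel.of_ne hx (sand_pre h2 h3 ht hs hx p (Rel.of_opp hs o)))

theorem Rel.of_up (hG : HasOpp k G) (h : UP G s x) : Rel G s (s * x - x * s) := by
  obtain ⟨δ, hδ, o⟩ := hG.ll h.mem
  by_cases h0 : δ * s * δ = 0
  · have e1 : Qd.cn k (uu x h.2.1.1.1) s = s - (s * x - x * s) := by
      rw [cn_uu (val_uu _) h.2.1.1.1, h.2.2.2.1]; abel
    have e2 : Qd.cn k (uu x h.2.1.1.1) (s * x - x * s) = s * x - x * s := by
      refine cn_eq_self.2 ((comm_of_val (val_uu _)).2 ?_)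
      rw [mul_sub, sub_mul, ← mul_assoc, h.2.2.2.1, ← mul_assoc, mul_assoc s, h.2.1.1.1]; simp
    have hu := le_normalizer (inv_mem (QQ.uu_mem h.2.1.1))
    have r1 : Rel G δ (s - (s * x - x * s)) := Rel.of_ne (e1 ▸ ll_cn h.1 (le_normalizer
      (QQ.uu_mem h.2.1.1))) (by rw [mul_sub, sub_mul, h0, o.2]; simpa using hδ.2.1)
    have r2 := ((Rel.of_ne hδ (Rel.of_opp hδ o.symm)).trans r1).cn hu
    rw [cn_inv_of_eq e1, cn_inv_of_eq e2] at r2
    exact r2.symm h2 h.mem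
  · exact ((Rel.of_ne hδ (Rel.of_opp hδ o.symm)).trans (Rel.of_ne h.1 h0)).symm h2 h.mem

theorem comm_of_not_rel (hG : HasOpp k G) (hs : s ∈ LL G) (hx : x ∈ LL G) (h : ¬ Rel G s x) :
    s * x = x * s := by
  rcases LL.cases h2 hs hx with h1 | h1 | h1
  · exact h1
  · exact absurd (Rel.of_ne hx h1) h
  · refine absurd (((Rel.of_up h2 h3 hG h1).trans (Rel.of_pre h2 h3 hG h1.mem h1.symm.mem ?_)).trans
      ((Rel.of_up h2 h3 hG h1.symm).symm h2 hx)) h
    rw [← neg_sub]; exact (Pre.refl _).neg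

/-- `U(s)` centralizes the roots of the other classes -/
theorem cn_of_not_rel (hG : HasOpp k G) (hs : s ∈ LL G) (hx : x ∈ LL G) (h : ¬ Rel G s x)
    (hu : u ∈ UU G s) : cn k u x = x := by
  obtain ⟨t, ht, o⟩ := hG.ll hs
  have r := (Rel.of_ne ht (Rel.of_opp ht o.symm))
  have h' : ¬ Rel G s (cn k u x) := fun e => h (by
    have := e.cn (le_normalizer (inv_mem hu.1))
    rwa [cn_inv_cn, cn_UU (inv_mem hu)] at this)
  have c1 := comm_of_not_rel h2 h3 hG hs hx h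
  have c2 := comm_of_not_rel h2 h3 hG ht hx fun e => h (r.trans e)
  have c3 := comm_of_not_rel h2 h3 hG ht (ll_cn hx (le_normalizer hu.1)) fun e => h' (r.trans e)
  refine sub_eq_zero.1 (TT_eq_zero o ?_ (by rw [sub_mul, mul_sub, c2, c3]))
  rw [show cn k u x - x = ((u.1 - 1) * x - x * (u.1 - 1)) * (u⁻¹).1 by
    rw [cn_apply, sub_mul, sub_mul, mul_sub, sub_mul, sub_mul]; simp]
  exact TT_right (sub_mem (TT_right hu.2 c1.symm) (TT_left hu.2 c1.symm)) (comm_of_TT (inv_mem hu).2)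

end End

section Prime
variable {p : ℕ} [Fact p.Prime] (hp : 5 ≤ p) {M : Type*} [AddCommGroup M] [Module (ZMod p) M]
  [Finite M] {G K : Subgroup (End (ZMod p) M)ˣ} {g u : (End (ZMod p) M)ˣ}
  {s t x y a ξ γ : End (ZMod p) M}
include hp

theorem hasOpp_aux (n : ℕ) : ∀ G : Subgroup (End (ZMod p) M)ˣ, Nat.card G = n →
    NoUnip (ZMod p) G → HasOpp (ZMod p) G := by
  haveI := fin_units (p := p) (M := M)
  have h2 := two_ne hp
  have h3 := three_lt hp
  induction n using Nat.strong_induction_on with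
  | _ n ih =>
  intro G hn hG α hα
  induction hm : rk α using Nat.strong_induction_on generalizing α with
  | _ m ih' =>
  intro h0
  by_cases h : ∀ s ∈ LL G, s * α * s = 0
  · obtain ⟨s, hs⟩ := exists_ll hα h0
    obtain ⟨t, ht, o⟩ := LL.exists_opp_of_noUnip h2 h3 hG hs
    have lt : fixG (ZMod p) G (LL G) < G := lt_of_le_of_ne fixG_le fun e =>
      ne_comm_of_opp o hs.1.1 hs.2.1 (comm_of_fixG (e.symm ▸ hs.1) ht)
    obtain ⟨β, hβ, o⟩ := ih _ (hn ▸ PG.card_lt_of_lt lt) _ rfl (hG.of_normal fixG_le fun g hg =>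
      conjBy_eq_self_iff.2 (norm_fixG le_normalizer (fun g hg x hx => LL.conj hx hg) hg)) α
      (qq_fixG hα fun y hy => RR.comm h2 h3 hG ⟨hα, h⟩ hy) h0
    exact ⟨β, QQ.mono hβ fixG_le, o⟩
  push Not at h
  obtain ⟨s, hs, h1⟩ := h
  obtain ⟨t, ht, pt, q1, r1, z1, z2, -⟩ := LL.split h2 h3 hs hα h1
  have h4 : s * t * s ≠ 0 := by
    rw [mul_sub, sub_eq_zero] at z1
    rwa [← z1]
  obtain ⟨s', hs', ps, o⟩ := LL.exists_opp h2 h3 ht hs.1 (sand_symm h2 hs ht.1 h4)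
  by_cases h5 : α - t = 0
  · exact ⟨s', hs'.1, sub_eq_zero.1 h5 ▸ o⟩
  obtain ⟨β, hβ, o1⟩ := ih' _ (hm ▸ r1) _ q1 rfl h5
  have p1 : Pre (α - t) α := (Pre.refl α).sub pt
  obtain ⟨α₁, e1⟩ : ∃ α₁, α₁ = α - t := ⟨_, rfl⟩
  rw [← e1] at q1 z1 z2 o1 p1
  have y1 : s' * α₁ = 0 := ps.mul_zero z1
  have y2 : α₁ * s' = 0 := ps.zero_mul z2
  have y3 : t * α₁ = 0 := pt.mul_pre p1 hα.1
  have y4 : α₁ * t = 0 := p1.mul_pre pt hα.1
  obtain ⟨z, hz⟩ : ∃ z, z = t * s' + s' * t := ⟨_, rfl⟩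
  have y5 : z * α₁ = 0 := by rw [hz, add_mul, mul_assoc, mul_assoc, y1, y3]; simp
  have y6 : α₁ * z = 0 := by rw [hz, mul_add, ← mul_assoc, ← mul_assoc, y2, y4]; simp
  obtain ⟨i, hi, ei, ii⟩ := o.exists_inv ht.1 hs'.1
  rw [← hz] at ei
  have i2 : i ^ 2 = 1 := by rw [pow_two]; nth_rw 1 [← ii]; simp
  obtain ⟨β₁, hβ₁, o2, hc⟩ := opp_cent (D := zpowers i) hp o1 q1 hβ
    (zpowers_le.2 (le_normalizer hi)) (by
      rw [Nat.card_zpowers]
      exact Nat.Coprime.coprime_dvd_left (orderOf_dvd_of_pow_eq_one i2)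
        ((Nat.coprime_primes Nat.prime_two Fact.out).2 (by omega)))
    (fun d hd => ((zpowers_le (H := fixG (ZMod p) ⊤ {α₁})).2 ⟨mem_top _, by
      rintro _ rfl
      rw [cn_eq_self, ei, sub_mul, sub_mul, mul_sub, mul_sub, y5, y6]; simp⟩ hd).2 _ rfl)
  have c1 := cn_eq_self.1 (hc i (mem_zpowers i))
  rw [ei, sub_mul, sub_mul, mul_sub, mul_sub, one_mul, mul_one, sub_sub, sub_sub, sub_right_inj,
    ← two_smul (ZMod p), ← two_smul (ZMod p)] at c1
  have c2 : z * β₁ = β₁ * z := smul_right_injective _ h2 c1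
  have c3 : z * β₁ = 0 := by rw [← o2.2, ← mul_assoc, ← mul_assoc, c2, mul_assoc β₁, y5]; simp
  have c4 : β₁ * z = 0 := c2 ▸ c3
  have w1 : s' * z = s' := by rw [hz, mul_add, ← mul_assoc, ← mul_assoc, o.2, hs'.1.1]; simp
  have w2 : z * s' = s' := by rw [hz, add_mul, o.2, mul_assoc, hs'.1.1]; simp
  have w3 : t * z = t := by rw [hz, mul_add, ← mul_assoc, ← mul_assoc, o.1, ht.1.1]; simp
  have w4 : z * t = t := by rw [hz, add_mul, o.1, mul_assoc, ht.1.1]; simp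
  have v1 : s' * β₁ = 0 := by rw [← w1, mul_assoc, c3, mul_zero]
  have v2 : β₁ * s' = 0 := by rw [← w2, ← mul_assoc, c4, zero_mul]
  have v3 : t * β₁ = 0 := by rw [← w3, mul_assoc, c3, mul_zero]
  have v4 : β₁ * t = 0 := by rw [← w4, ← mul_assoc, c4, zero_mul]
  refine ⟨s' + β₁, QQ.add hs'.1 hβ₁ v1 v2, ?_⟩
  rw [show α = t + α₁ by rw [e1]; abel]
  constructor
  · simp only [mul_add, add_mul, v3, y2, add_zero, zero_add, o.1, o2.1]
    rw [mul_assoc, v4, mul_assoc, y1]; simp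
  · simp only [mul_add, add_mul, y1, v4, add_zero, zero_add, o.2, o2.2]
    rw [mul_assoc, y2, mul_assoc, v3]; simp

theorem hasOpp_of_noUnip (hG : NoUnip (ZMod p) G) : HasOpp (ZMod p) G := hasOpp_aux hp _ G rfl hG

/-- quadratic elements preserve the classes -/
theorem rel_cn_uu (hG : HasOpp (ZMod p) G) (hs : s ∈ LL G) (ha : a ∈ QQ (ZMod p) G)
    (e : (u : End (ZMod p) M) = 1 + a) : Rel G s (cn (ZMod p) u s) := by
  obtain ⟨t, ht, o⟩ := hG.ll hs
  have hU : ∀ c : ZMod p, uu _ (QQ.smul ha c).1 ∈ 𝐍[G] := fun c =>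
    le_normalizer (QQ.uu_mem (QQ.smul ha c))
  have ev : ∀ c : ZMod p, t * cn (ZMod p) (uu _ (QQ.smul ha c).1) s * t =
      t + c • (t * (a * s - s * a) * t) - (c * c) • (t * (a * s * a) * t) := fun c => by
    rw [cn_uu (val_uu _) (QQ.smul ha c).1, mul_sub, mul_add, sub_mul, add_mul, o.2]
    simp only [smul_mul_assoc, mul_smul_comm, ← smul_sub, smul_smul]
  obtain ⟨c, hc, h1⟩ : ∃ c : ZMod p, c ≠ 0 ∧ t * cn (ZMod p) (uu _ (QQ.smul ha c).1) s * t ≠ 0 := by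
    by_contra hc
    push Not at hc
    have a1 := hc 1 one_ne_zero
    have a2 := hc 2 (two_ne hp)
    have a3 := hc 3 (three_ne hp)
    rw [ev] at a1 a2 a3
    refine ht.2.1 ?_
    calc t = (3 : ZMod p) • (t + (1 : ZMod p) • (t * (a * s - s * a) * t) -
          (1 * 1 : ZMod p) • (t * (a * s * a) * t)) - (3 : ZMod p) • (t + (2 : ZMod p) •
          (t * (a * s - s * a) * t) - (2 * 2 : ZMod p) • (t * (a * s * a) * t)) + (t + (3 : ZMod p) •
          (t * (a * s - s * a) * t) - (3 * 3 : ZMod p) • (t * (a * s * a) * t)) := by module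
      _ = 0 := by rw [a1, a2, a3]; simp
  have r1 : Rel G s (cn (ZMod p) (uu _ (QQ.smul ha c).1) s) :=
    (Rel.of_ne ht (Rel.of_opp ht o.symm)).trans (Rel.of_ne (ll_cn hs (hU c)) h1)
  have r2 : ∀ n : ℕ, Rel G s (cn (ZMod p) (uu _ (QQ.smul ha (n * c)).1) s) := fun n => by
    induction n with
    | zero =>
      rw [show uu _ (QQ.smul ha ((0 : ℕ) * c)).1 = 1 from Units.ext (by simp [val_uu]), cn_one]
      exact Rel.refl _
    | succ n ih =>
      rw [show uu _ (QQ.smul ha ((n + 1 : ℕ) * c)).1 =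
        uu _ (QQ.smul ha c).1 * uu _ (QQ.smul ha (n * c)).1 from Units.ext (by
          simp only [val_uu, Units.val_mul, mul_add, add_mul, smul_mul_assoc, mul_smul_comm, ha.1,
            Nat.cast_succ, add_smul, mul_one, one_mul, smul_zero]
          abel), cn_mul]
      exact r1.trans (ih.cn (hU c))
  have := r2 (c⁻¹).val
  rwa [show uu _ (QQ.smul ha ((c⁻¹).val * c)).1 = u from Units.ext (by
    rw [val_uu, e, ZMod.natCast_zmod_val, inv_mul_cancel₀ hc, one_smul])] at this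

omit [Finite M] in
theorem exists_pre_of_opp (hs : s ∈ LL G) (ht : t ∈ LL G) (o : Opp s t) (hU : UU G s ≤ K)
    (hK : InU K t) (hy : y ∈ QQ (ZMod p) G) (o' : Opp s y) : ∃ g ∈ K, cn (ZMod p) g y = -s := by
  obtain ⟨u, hu, e⟩ := opp_trans hp o' o hs.1 hy ht.1
  obtain ⟨w, hw, e'⟩ := exists_w' (k := ZMod p) o hs.1.1 ht.1.1
    ((inU_UU hs.1 ((Pre.refl s).mem_TT hs.1.1)).mono hU) hK
  exact ⟨w * u, mul_mem hw (hU hu), by rw [cn_mul, e, e']⟩

/-- transitivity on a class -/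
theorem exists_pre_of_rel (hs : s ∈ LL G) (ht : t ∈ LL G) (o : Opp s t) (hK : K ≤ G)
    (hU : UU G s ≤ K) (hK' : InU K t) (h : Rel G s x) : ∃ g ∈ K, Pre (cn (ZMod p) g x) s := by
  have h2 := two_ne hp
  have h3 := three_lt hp
  induction h with
  | refl => exact ⟨1, one_mem _, by rw [cn_one]; exact Pre.refl s⟩
  | @tail b c h' h ih =>
    obtain ⟨g, hg, pg⟩ := ih
    have hb := ll_cn (Rel.ll h' hs) (le_normalizer (hK hg))
    have hc := ll_cn h.1 (le_normalizer (hK hg))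
    obtain ⟨y, hy, py, o'⟩ := LL.exists_opp h2 h3 hs hc.1
      (sand_pre' h2 h3 hb hc hs (LL.pre_symm hs hb.1 hb.2.1 pg) (sand_cn.2 h.2))
    obtain ⟨w, hw, e⟩ := exists_pre_of_opp hp hs ht o hU hK' hy.1 o'
    refine ⟨w * g, mul_mem hw hg, ?_⟩
    have := pre_cn (k := ZMod p) (LL.pre_symm hc hy.1 hy.2.1 py) w
    rw [e] at this
    rw [cn_mul]
    simpa using this.neg_right

theorem comm_of_rel (hs : s ∈ LL G) (ht : t ∈ LL G) (o : Opp s t)
    (h1 : ∀ u ∈ UU G s, cn (ZMod p) u γ = γ) (h2 : t * γ = γ * t) (h : Rel G s x) :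
    x * γ = γ * x := by
  obtain ⟨g, hg, pg⟩ := exists_pre_of_rel hp (K := fixG (ZMod p) G {γ}) hs ht o fixG_le
    (fun u hu => ⟨hu.1, by rintro _ rfl; exact h1 u hu⟩)
    (QQ.inU (qq_fixG ht.1 (by rintro _ rfl; exact h2))) h
  have hy := ll_cn (h.ll hs) (le_normalizer hg.1)
  have := (comm_of_val (val_uu hy.1.1)).1 (cn_eq_self.1 (h1 _ (mem_UU hy.1 (pg.mem_TT hs.1.1) rfl)))
  refine cn_inj (k := ZMod p) (g := g) ?_
  rw [map_mul, map_mul, hg.2 γ rfl, this]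

/-- a local move: `x` is carried into the root space of `s` by an element fixing the other
classes -/
theorem exists_local (hG : HasOpp (ZMod p) G) (hs : s ∈ LL G) (h : Rel G s x) :
    ∃ g ∈ G, Pre (cn (ZMod p) g x) s ∧ ∀ z ∈ LL G, ¬ Rel G s z → cn (ZMod p) g z = z := by
  have h2 := two_ne hp
  have h3 := three_lt hp
  obtain ⟨t, ht, o⟩ := hG.ll hs
  obtain ⟨g, hg, pg⟩ := exists_pre_of_rel hp (K := fixG (ZMod p) G {z | z ∈ LL G ∧ ¬ Rel G s z})
    hs ht o fixG_le (fun u hu => ⟨hu.1, fun z hz => cn_of_not_rel h2 h3 hG hs hz.1 hz.2 hu⟩)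
    (QQ.inU (qq_fixG ht.1 fun z hz => comm_of_not_rel h2 h3 hG ht hz.1 fun e =>
      hz.2 ((Rel.of_ne ht (Rel.of_opp ht o.symm)).trans e))) h
  exact ⟨g, hg.1, pg, fun z h1 h2 => hg.2 z ⟨h1, h2⟩⟩

end Prime

end Cfsg.Agent.Flav.Qd
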