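import Mathlib
import Cfsg.Agent.Flav.QuadB
import Cfsg.Agent.GT.PGroupChain

/-! # Quadratic elements: the only root subgroup of its class normalized by `U(s)` is `E(s)` -/

set_option autoImplicit false
open Cfsg Subgroup Module

namespace Cfsg.Agent.Flav.Qd
open Cfsg.Agent.GT Cfsg.Agent.Chev.Tim Cfsg.Agent.Loc.Mss

section Ring
variable {k : Type*} [Field k] {A : Type*} [Ring A] [Algebra k A] {s t ξ : A}

/-- the degree zero part -/
def d0 (s t ξ : A) : A := t * s * ξ + (1 - s * t) * (ξ * (1 - t * s)) + ξ * (1 - t * s) * (s * t)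

theorem hv_conj (o : Opp s t) (hs : s * s = 0) (h : ξ * s = s * ξ) {c : k}
    (hc : c ≠ 0) : hv k s t c * ξ * hv k s t c⁻¹ =
      d0 s t ξ + c • (ξ - d0 s t ξ - s * t * ξ * (t * s)) + (c * c) • (s * t * ξ * (t * s)) := by
  have b1 : s * t * (ξ * (s * t)) = ξ * (s * t) := by
    rw [← mul_assoc ξ, h, ← mul_assoc, ← mul_assoc, o.1]
  have b2 : t * s * (ξ * (s * t)) = 0 := by
    rw [← mul_assoc ξ, h, ← mul_assoc, ← mul_assoc, mul_assoc t, hs]; simp
  have b3 : t * s * (ξ * (t * s)) = t * s * ξ := by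
    rw [mul_assoc t, ← mul_assoc s, ← h, mul_assoc ξ, ← mul_assoc s, o.1, mul_assoc t, h]
  have b4 : t * s * (s * t) = 0 := by rw [← mul_assoc, mul_assoc t, hs]; simp
  rw [hv, hv, d0, inv_inv]
  generalize s * t = E at *
  generalize t * s = F at *
  simp only [mul_add, add_mul, mul_sub, sub_mul, mul_one, one_mul, smul_mul_assoc, mul_smul_comm,
    mul_assoc, b1, b2, b3, b4, mul_zero, smul_zero]
  match_scalars <;> field_simp <;> ring

theorem d0_comm (o : Opp s t) (hs : s * s = 0) (ht : t * t = 0) (h : ξ * s = s * ξ) :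
    t * d0 s t ξ = d0 s t ξ * t := by
  have a1 : ∀ u, s * (s * u) = 0 := fun u => by rw [← mul_assoc, hs, zero_mul]
  have a2 : ∀ u, t * (t * u) = 0 := fun u => by rw [← mul_assoc, ht, zero_mul]
  have a3 : ∀ u, t * (s * (t * u)) = t * u := fun u => by rw [← mul_assoc, ← mul_assoc, o.2]
  have a4 : t * (s * t) = t := by rw [← mul_assoc, o.2]
  have a5 : ∀ u, ξ * (s * u) = s * (ξ * u) := fun u => by rw [← mul_assoc, h, mul_assoc]
  simp only [d0, mul_add, add_mul, mul_sub, sub_mul, mul_one, one_mul, mul_assoc, a1, a2, a3, a4,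
    a5, ht, mul_zero, zero_mul]
  abel

theorem hv_conj_self (o : Opp s t) (hs : s * s = 0) {c : k} :
    hv k s t c * s * hv k s t c⁻¹ = (c * c) • s := by
  have a1 : ∀ u, s * (s * u) = 0 := fun u => by rw [← mul_assoc, hs, zero_mul]
  have a3 : s * (t * s) = s := by rw [← mul_assoc, o.1]
  simp only [hv, inv_inv, mul_add, add_mul, mul_one, one_mul, smul_mul_assoc, mul_smul_comm,
    mul_assoc, a1, a3, hs, mul_zero, smul_zero, zero_mul]
  module

end Ring

section End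
variable {k : Type*} [Field k] {M : Type*} [AddCommGroup M] [Module k M]
  {G : Subgroup (End k M)ˣ} {s t x y ξ : End k M}

theorem d0_TT (o : Opp s t) (hs : s * s = 0) (h : ξ * s = s * ξ) : ξ - d0 s t ξ ∈ TT s := by
  have a1 : ∀ u, s * (s * u) = 0 := fun u => by rw [← mul_assoc, hs, zero_mul]
  have a3 : ∀ u, s * (t * (s * u)) = s * u := fun u => by rw [← mul_assoc, ← mul_assoc, o.1]
  have a4 : s * (t * s) = s := by rw [← mul_assoc, o.1]
  have a5 : ∀ u, ξ * (s * u) = s * (ξ * u) := fun u => by rw [← mul_assoc, h, mul_assoc]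
  have a6 : s * (ξ * (t * s)) = s * ξ := by rw [← a5, a4, h]
  have e : ξ - d0 s t ξ =
      s * (t * ξ - ξ * t - t * ξ * (t * s)) + (ξ * t - t * ξ) * s := by
    simp only [d0, mul_add, add_mul, mul_sub, sub_mul, mul_one, one_mul, mul_assoc, a1, a5, h,
      mul_zero]
    abel
  rw [e]
  refine ⟨?_, ?_, fun v hv => ⟨(t * ξ - ξ * t - t * ξ * (t * s)) v, by simp [hv]⟩⟩
  all_goals
    simp only [mul_add, add_mul, mul_sub, sub_mul, mul_assoc, a1, a3, a5, a6, h, hs, mul_zero]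
    abel

theorem comm_of_sub_TT (hx : x ∈ QQ k G) (hy : y ∈ QQ k G) (hs : x * s = s * x)
    (hU : ∀ u ∈ UU G s, cn k u x = x) (h : y - x ∈ TT s) : x * y = y * x := by
  have hu : (uu x hx.1)⁻¹ * uu y hy.1 ∈ UU G s := ⟨mul_mem (inv_mem (QQ.uu_mem hx)) (QQ.uu_mem hy), by
    rw [show (((uu x hx.1)⁻¹ * uu y hy.1 : (End k M)ˣ) : End k M) - 1 = (1 - x) * (y - x) by
      rw [Units.val_mul, val_inv_uu, val_uu]; noncomm_ring [hx.1]]
    exact TT_left h (by rw [sub_mul, mul_sub, hs]; simp)⟩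
  have h1 := hU _ hu
  rw [cn_mul] at h1
  have h2 := cn_inv_of_eq h1
  rw [inv_inv, cn_eq_self.2 ((comm_of_val (val_uu hx.1)).2 rfl)] at h2
  exact ((comm_of_val (val_uu hy.1)).1 (cn_eq_self.1 h2.symm)).symm

variable [FiniteDimensional k M]

theorem rk_d0 (o : Opp s t) (hs : s * s = 0) (h : ξ * s = s * ξ) : rk (d0 s t ξ) ≤ rk ξ := by
  have h1 := rk_add_rk_le (a := t * s) (s := ξ) (b := 1 - t * s) (by
    rw [mul_sub, mul_sub, mul_one, mul_assoc t s (ξ * _), ← mul_assoc s, ← h, mul_assoc ξ,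
      ← mul_assoc s, o.1, mul_assoc t, h, sub_self])
  have h2 := rk_add_rk_le (a := 1 - s * t) (s := ξ * (1 - t * s)) (b := s * t) (by
    rw [mul_assoc ξ, sub_mul 1 (t * s), ← mul_assoc (t * s), mul_assoc t s s, hs, mul_zero,
      zero_mul, sub_zero, one_mul, ← mul_assoc ξ, h, ← mul_assoc, ← mul_assoc, sub_mul, o.1]; simp)
  have h3 := rk_add_le (t * s * ξ + (1 - s * t) * (ξ * (1 - t * s))) (ξ * (1 - t * s) * (s * t))
  have h4 := rk_add_le (t * s * ξ) ((1 - s * t) * (ξ * (1 - t * s)))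
  rw [d0]; omega

end End

section Prime
variable {p : ℕ} [Fact p.Prime] (hp : 5 ≤ p) {M : Type*} [AddCommGroup M] [Module (ZMod p) M]
  [Finite M] {G K S : Subgroup (End (ZMod p) M)ˣ} {g u : (End (ZMod p) M)ˣ}
  {s t x y a ξ γ : End (ZMod p) M}
include hp

theorem pre_or_of_TT (hG : HasOpp (ZMod p) G) (hs : s ∈ LL G) (ht : t ∈ LL G) (o : Opp s t)
    (hy : y ∈ LL G) (ty : y ∈ TT s) (hU : ∀ u ∈ UU G s, cn (ZMod p) u y = y) :
    Pre y s ∨ t * y * t ≠ 0 := by
  have h2 := two_ne hp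
  have h3 := three_lt hp
  obtain ⟨l, hl, o'⟩ := hG.ll hy
  by_cases h : s * l * s = 0
  · left
    have h' := LL.u_symm h2 hs.1 hl h
    have m : s * l - l * s ∈ TT s := ⟨by rw [sub_mul, h, mul_assoc, hs.1.1]; simp,
      by rw [mul_sub, ← mul_assoc, ← mul_assoc, h, hs.1.1]; simp,
      fun v hv => ⟨l v, by simp [hv]⟩⟩
    have c := (comm_of_val (val_uu (QQ.comm hs.1 hl.1 h h').1)).1
      (cn_eq_self.1 (hU _ (mem_UU (QQ.comm hs.1 hl.1 h h') m rfl)))
    rw [sub_mul, mul_sub, mul_assoc l, ty.2.1, ← mul_assoc y s, ty.1, mul_zero, zero_mul, sub_zero,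
      zero_sub] at c
    have c1 : l * s = 0 := by
      have := congrArg (l * ·) c
      simp only [← mul_assoc, h', mul_neg, o'.2, zero_mul] at this
      exact neg_eq_zero.1 this.symm
    have c2 : s * l = 0 := by
      have := congrArg (· * l) c
      simp only [neg_mul, mul_assoc] at this
      rw [← mul_assoc l y, o'.2, ← mul_assoc l, c1] at this
      simpa using this
    rw [pre_iff]
    refine ⟨fun v hv => ?_, ?_⟩
    · obtain ⟨w, hw⟩ := ty.2.2 v hv
      rw [LinearMap.mem_ker, ← o'.1, Module.End.mul_apply, Module.End.mul_apply, ← hw,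
        ← Module.End.mul_apply l, c1]; simp
    · rintro _ ⟨v, rfl⟩
      rw [← o'.1]
      exact ty.2.2 _ (by rw [← Module.End.mul_apply, c2]; rfl)
  · right
    obtain ⟨l', hl', pl, o1⟩ := LL.exists_opp h2 h3 hs hl.1 h
    obtain ⟨u, hu, e⟩ := opp_trans hp o1 o hs.1 hl'.1 ht.1
    have := (sand_cn (k := ZMod p) (g := u)).2 (sand_pre h2 h3 hy hl hl' pl (Rel.of_opp hl o'.symm))
    rw [hU u hu, e] at this
    exact sand_symm h2 hy ht.1 this

theorem pre_of_TT (hG : HasOpp (ZMod p) G) (hs : s ∈ LL G) (hξ : ξ ∈ LL G) (tξ : ξ ∈ TT s)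
    (hU : ∀ u ∈ UU G s, cn (ZMod p) u ξ = ξ) : Pre ξ s := by
  obtain ⟨t, ht, o⟩ := hG.ll hs
  obtain ⟨C, -, pC, h1, h2, h3⟩ := purify (two_ne hp) hs.1 ht.1 o hξ.1 tξ
  by_cases h0 : ξ - C = 0
  · exact sub_eq_zero.1 h0 ▸ pC
  have := (pre_or_of_TT hp hG hs ht o (LL.of_le hξ h1 h0 h2) (sub_mem tξ (pC.mem_TT hs.1.1))
    fun u hu => by
      rw [map_sub, hU u hu, cn_eq_self.2 ((comm_of_val (x := u.1 - 1) (by simp)).2
        (by rw [pC.zero_mul hu.2.1, pC.mul_zero hu.2.2.1]))]).resolve_right (not_not.2 h3)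
  simpa using this.add pC

/-- a root element of the class of `s` centralized by `U(s)` lies in the root space of `s` -/
theorem pre_of_fix (hG : HasOpp (ZMod p) G) (hs : s ∈ LL G) (h : Rel G s ξ)
    (hU : ∀ u ∈ UU G s, cn (ZMod p) u ξ = ξ) : Pre ξ s := by
  have h2 := two_ne hp
  have h3 := three_lt hp
  have h3' := three_ne hp
  have hξ := h.ll hs
  obtain ⟨t, ht, o⟩ := hG.ll hs
  have cs : ∀ {y}, (∀ u ∈ UU G s, cn (ZMod p) u y = y) → y * s = s * y := fun hy =>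
    ((comm_of_val (val_uu hs.1.1)).1 (cn_eq_self.1
      (hy _ (mem_UU hs.1 ((Pre.refl s).mem_TT hs.1.1) rfl)))).symm
  have t0 := d0_TT o hs.1.1 (cs hU)
  by_cases h0 : d0 s t ξ = 0
  · exact pre_of_TT hp hG hs hξ (by simpa [h0] using t0) hU
  exfalso
  have t2 : s * t * ξ * (t * s) ∈ TT s := by
    rw [mul_assoc s, ← mul_assoc, mul_assoc s]; exact (Pre.sandwich _ _).mem_TT hs.1.1
  have c0 := d0_comm o hs.1.1 ht.1.1 (cs hU)
  have r0 := rk_d0 o hs.1.1 (cs hU)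
  have key : ∀ c : ZMod p, c ≠ 0 → ∃ y, y = d0 s t ξ + c • (ξ - d0 s t ξ - s * t * ξ * (t * s)) +
      (c * c) • (s * t * ξ * (t * s)) ∧ Rel G s y ∧ (∀ u ∈ UU G s, cn (ZMod p) u y = y) ∧
      y - d0 s t ξ ∈ TT s := fun c hc => by
    obtain ⟨h', hh, e1, e2⟩ := exists_h o hs.1 ht.1 hc
    have e3 : cn (ZMod p) h' s = (c * c) • s := by rw [cn_apply, e1, e2, hv_conj_self o hs.1.1]
    have p3 : Pre (cn (ZMod p) h' s) s := e3 ▸ (Pre.refl s).smul _
    have e4 := hv_conj o hs.1.1 (cs hU) hc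
    rw [← e1, ← e2, ← cn_apply (k := ZMod p)] at e4
    refine ⟨_, e4, (Rel.of_pre h2 h3 hG hs (ll_cn hs (le_normalizer hh)) p3).trans
      (h.cn (le_normalizer hh)), fun u hu => ?_, ?_⟩
    · rw [← cn_mul, show u * h' = h' * (h'⁻¹ * u * h') by group, cn_mul,
        hU _ (conj_mem_of_norm' (norm_UU (le_normalizer hh) p3) hu)]
    · rw [e4, add_assoc, add_sub_cancel_left]
      exact add_mem (Submodule.smul_mem _ _ (sub_mem t0 t2)) (Submodule.smul_mem _ _ t2)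
  obtain ⟨b, eb, rb, ub, tb⟩ := key (-1) (by simp)
  obtain ⟨d, ed, rd, ud, td⟩ := key 2 h2
  generalize d0 s t ξ = γ at *
  have eγ : γ = ξ + (3⁻¹ : ZMod p) • b - (3⁻¹ : ZMod p) • d := by
    rw [eb, ed]; match_scalars <;> field_simp <;> ring
  have hb := rb.ll hs
  have hd := rd.ll hs
  have ab := comm_of_sub_TT hξ.1 hb.1 (cs hU) hU (by simpa using sub_mem tb t0)
  have ad := comm_of_sub_TT hξ.1 hd.1 (cs hU) hU (by simpa using sub_mem td t0)
  have bd := comm_of_sub_TT hb.1 hd.1 (cs ub) ub (by simpa using sub_mem td tb)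
  have uγ : ∀ u ∈ UU G s, cn (ZMod p) u γ = γ := fun u hu => by
    rw [eγ, map_sub, map_add, map_smul, map_smul, hU u hu, ub u hu, ud u hu]
  have aγ : ξ * γ = γ * ξ := by
    rw [eγ]; simp only [mul_add, add_mul, mul_sub, sub_mul, smul_mul_assoc, mul_smul_comm, ab, ad]
  have gg : γ * γ = 0 := by
    refine TT_eq_zero o ?_ (by rw [mul_assoc, ← c0, ← mul_assoc, ← c0, mul_assoc])
    rw [show γ * γ = -((ξ + γ) * (ξ - γ)) by noncomm_ring [hξ.1.1, aγ]]
    exact neg_mem (TT_left t0 (by rw [add_mul, mul_add, cs hU, cs uγ]))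
  have abd : ξ * b * d = 0 := by
    have e1 : ξ * b * d = ξ * (b - ξ) * (d - ξ) := by
      have : ξ * b * ξ = 0 := by rw [mul_assoc, ← ab, ← mul_assoc, hξ.1.1, zero_mul]
      rw [mul_sub ξ, hξ.1.1, sub_zero, mul_sub, this, sub_zero]
    have e2 : (2 : ZMod p) • ξ = (2 : ZMod p) • γ + (2 : ZMod p) • (ξ - γ) := by module
    have e3 : (2 : ZMod p) • (γ * (b - ξ)) = (ξ - γ) * (ξ - γ) - (b - γ) * (b - γ) := by
      have bγ : b * γ = γ * b := by
        rw [eγ]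
        simp only [mul_add, add_mul, mul_sub, sub_mul, smul_mul_assoc, mul_smul_comm, ab, bd]
      rw [two_smul]; noncomm_ring [hξ.1.1, hb.1.1, aγ, bγ]
    have t1 : b - ξ ∈ TT s := by simpa using sub_mem tb t0
    have t3 : d - ξ ∈ TT s := by simpa using sub_mem td t0
    refine smul_right_injective _ h2 ?_
    change (2 : ZMod p) • _ = (2 : ZMod p) • _
    rw [e1, ← smul_mul_assoc, ← smul_mul_assoc, e2, add_mul, add_mul, smul_mul_assoc, e3, sub_mul,
      TT_triple t0 t0 t3, TT_triple tb tb t3, smul_mul_assoc, smul_mul_assoc, TT_triple t0 t1 t3]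
    simp
  have hγ : γ ∈ QQ (ZMod p) G := by
    refine qq_of_inU gg ⟨uu _ hξ.1.1 * uu _ (QQ.smul hb.1 3⁻¹).1 * (uu _ (QQ.smul hd.1 3⁻¹).1)⁻¹,
      mul_mem (mul_mem (QQ.uu_mem hξ.1) (QQ.uu_mem (QQ.smul hb.1 _)))
        (inv_mem (QQ.uu_mem (QQ.smul hd.1 _))), ?_⟩
    have g2 : (2 : ZMod p) • ((3⁻¹ : ZMod p) • (ξ * b) - (3⁻¹ : ZMod p) • (ξ * d) -
        (3⁻¹ * 3⁻¹ : ZMod p) • (b * d)) = (2 : ZMod p) • 0 := by
      rw [smul_zero, ← gg, eγ]
      simp only [mul_add, add_mul, mul_sub, sub_mul, smul_mul_assoc, mul_smul_comm, ← ab, ← ad,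
        ← bd, hξ.1.1, hb.1.1, hd.1.1]
      module
    have g3 := smul_right_injective _ h2 g2
    rw [Units.val_mul, Units.val_mul, val_uu, val_uu, val_inv_uu, ← add_zero (1 + γ), ← g3, eγ]
    simp only [mul_add, add_mul, mul_sub, smul_mul_assoc, mul_smul_comm, mul_one, one_mul, abd]
    module
  obtain ⟨δ, hδ, o'⟩ := hG.ll (LL.of_le hξ hγ h0 r0)
  have : Rel G s δ := by
    by_contra hn
    have z : ∀ {y}, Rel G s y → δ * y * δ = 0 := fun {y} hy => by
      by_contra hne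
      exact hn (hy.trans ((Rel.of_ne (hy.ll hs) hne).symm h2 hδ))
    refine hδ.2.1 ?_
    rw [← o'.2, eγ]
    simp only [mul_add, add_mul, mul_sub, sub_mul, smul_mul_assoc, mul_smul_comm, z h, z rb, z rd]
    simp
  exact ne_comm_of_opp o' gg h0 (comm_of_rel hp hs ht o uγ c0 this).symm

theorem pre_of_norm (hG : HasOpp (ZMod p) G) (hs : s ∈ LL G) (h : Rel G s x)
    (hU : ∀ u ∈ UU G s, Pre (cn (ZMod p) u x) x) : Pre x s := by
  haveI := fin_units (p := p) (M := M)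
  have hx := h.ll hs
  have h1 : IsPGroup p (EE (ZMod p) G x) := pg_iff.2 fun g hg => ⟨1, by
    obtain ⟨y, hy, -, e⟩ := (mem_EE hx.1.1).1 hg
    rw [pow_one]; exact pow_p_eq_one hp e (by rw [hy.1, zero_mul])⟩
  have h2 : UU G s ≤ 𝐍[EE (ZMod p) G x] := fun u hu => conjBy_eq_self_iff.1 (by
    rw [EE_conj hu.1]; exact EE_eq (hU u hu) (pre_cn_symm (hU u hu)))
  obtain ⟨g, hg, h3⟩ := exists_ne_one_of_ne_bot
    (PG.inf_centralizer_ne_bot_of_isPGroup h1 (pg_UU hp) h2 (EE_ne_bot hx.1 hx.2.1))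
  obtain ⟨y, hy, p1, p2, e⟩ := LL.mem_EE hx hg.1 h3
  refine p2.trans (pre_of_fix hp hG hs (h.trans (Rel.of_pre (two_ne hp) (three_lt hp) hG hx hy p1))
    fun u hu => cn_eq_self.2 ((comm_of_val e).1 ?_).symm)
  exact (congrArg Units.val (mem_cent.1 hg.2 u hu)).symm

end Prime

end Cfsg.Agent.Flav.Qd
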