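import Mathlib
import Cfsg.Agent.Flav.QuadC

/-! # Quadratic elements: transversals of root spaces and the equivariant frame -/

set_option autoImplicit false
open Cfsg Subgroup Module

namespace Cfsg.Agent.Flav.Qd
open Cfsg.Agent.GT Cfsg.Agent.Chev.Tim Cfsg.Agent.Loc.Mss

section Ring
variable (k : Type*) [Field k] {A : Type*} [Ring A] [Algebra k A]

/-- conjugation of sets -/
def sm (g : Aˣ) (X : Set A) : Set A := {x | cn k g⁻¹ x ∈ X}

/-- the conjugation action on sets -/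
abbrev act : MulAction Aˣ (Set A) where
  smul := sm k
  one_smul X := Set.ext fun x => by
    change cn k 1⁻¹ x ∈ X ↔ _
    rw [inv_one, cn_one]
  mul_smul g h X := Set.ext fun x => by
    change cn k (g * h)⁻¹ x ∈ X ↔ cn k h⁻¹ (cn k g⁻¹ x) ∈ X
    rw [mul_inv_rev, cn_mul]

variable {k} {g : Aˣ} {X : Set A} {s t s' t' x : A}

theorem cn_mem_sm (hx : x ∈ X) : cn k g x ∈ sm k g X := by
  change cn k g⁻¹ _ ∈ X
  rwa [cn_inv_cn]

theorem sm_eq_of {N : Subgroup Aˣ} (h : ∀ g ∈ N, ∀ x ∈ X, cn k g x ∈ X) (hg : g ∈ N) :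
    sm k g X = X :=
  Set.ext fun x => ⟨fun hx => cn_cn_inv (k := k) g x ▸ h g hg _ hx, h _ (inv_mem hg) x⟩

theorem hv_mul (o : Opp s t) (hs : s * s = 0) (ht : t * t = 0) {c c' : k} (hc : c ≠ 0)
    (hc' : c' ≠ 0) : hv k s t c * hv k s t c' = hv k s t (c * c') := by
  have a1 : ∀ a, s * (s * a) = 0 := fun a => by rw [← mul_assoc, hs, zero_mul]
  have a2 : ∀ a, t * (t * a) = 0 := fun a => by rw [← mul_assoc, ht, zero_mul]
  have a4 : t * (s * t) = t := by rw [← mul_assoc, o.2]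
  have a3 : s * (t * s) = s := by rw [← mul_assoc, o.1]
  simp only [hv, smul_mul_assoc, mul_smul_comm, mul_add, add_mul, mul_one, one_mul,
    mul_assoc, a1, a2, a3, a4, mul_zero, smul_zero, add_zero]
  match_scalars <;> field_simp <;> ring

theorem hv_pow (o : Opp s t) (hs : s * s = 0) (ht : t * t = 0) {c : k} (hc : c ≠ 0) (n : ℕ) :
    hv k s t c ^ n = hv k s t (c ^ n) := by
  induction n with
  | zero => simp [hv]
  | succ n ih => rw [pow_succ, ih, hv_mul o hs ht (pow_ne_zero n hc) hc, pow_succ]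

theorem cn_hv (c : k) : cn k g (hv k s t c) = hv k (cn k g s) (cn k g t) c := by
  simp only [hv, map_add, map_one, map_smul, map_mul]

theorem comm_hv (h1 : x * s = s * x) (h2 : x * t = t * x) (c : k) :
    x * hv k s t c = hv k s t c * x := by
  have a1 : Commute x s := h1
  have a2 : Commute x t := h2
  exact (((Commute.one_right x).add_right ((a1.mul_right a2).smul_right _)).add_right
    ((a2.mul_right a1).smul_right _)).eq

theorem idem_eq (o : Opp s t) (o' : Opp s' t') (p1 : Pre s s') (p2 : Pre t' t) :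
    s' * t' = s * t := by
  calc s' * t' = s' * (t' * (s * t)) := by rw [p2.mul_eq (by rw [← mul_assoc, o.2])]
    _ = s * t := by rw [← mul_assoc, ← mul_assoc, p1.eq_mul o'.1]

end Ring

section End
variable {k : Type*} [Field k] {M : Type*} [AddCommGroup M] [Module k M]
  {G K S : Subgroup (End k M)ˣ} {g u : (End k M)ˣ} {s t x y a : End k M} {X Y : Set (End k M)}

variable (G) in
/-- a union of root spaces, one from each class -/
structure Trans (X : Set (End k M)) : Prop where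
  ll : ∀ x ∈ X, x ∈ LL G
  pre : ∀ x ∈ X, ∀ y ∈ LL G, Pre y x → y ∈ X
  ex : ∀ y ∈ LL G, ∃ x ∈ X, Rel G x y
  uniq : ∀ x ∈ X, ∀ y ∈ X, Rel G x y → Pre y x

theorem Trans.eq (hX : Trans G X) (hY : Trans G Y) (h : X ⊆ Y) : X = Y :=
  h.antisymm fun y hy => by
    obtain ⟨x, hx, r⟩ := hX.ex y (hY.ll y hy)
    exact hX.pre x hx y (hY.ll y hy) (hY.uniq x (h hx) y hy r)

variable (G S) in
/-- the roots whose root space is normalized by `S` -/
def Lam : Set (End k M) := {x | x ∈ LL G ∧ ∀ g ∈ S, Pre (cn k g x) x}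

variable [FiniteDimensional k M]

theorem Trans.sm (hX : Trans G X) (hg : g ∈ 𝐍[G]) : Trans G (sm k g X) where
  ll x hx := cn_cn_inv (k := k) g x ▸ ll_cn (hX.ll _ hx) hg
  pre _ hx _ hy p := hX.pre _ hx _ (ll_cn hy (inv_mem hg)) (pre_cn p _)
  ex y hy := by
    obtain ⟨x, hx, r⟩ := hX.ex _ (ll_cn hy (inv_mem hg))
    exact ⟨_, cn_mem_sm hx, cn_cn_inv (k := k) g y ▸ r.cn hg⟩
  uniq x hx y hy r := by
    have := pre_cn (k := k) (hX.uniq _ hx _ hy (r.cn (inv_mem hg))) g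
    rwa [cn_cn_inv, cn_cn_inv] at this

theorem cn_mem_Lam (hg : g ∈ 𝐍[G]) (hS : g ∈ 𝐍[S]) (hx : x ∈ Lam G S) : cn k g x ∈ Lam G S :=
  ⟨ll_cn hx.1 hg, fun a ha => by
    rw [← cn_mul, show a * g = g * (g⁻¹ * a * g) by group, cn_mul]
    exact pre_cn (hx.2 _ (conj_mem_of_norm' hS ha)) g⟩

variable (G x) in
/-- the normalizer of a root space -/
def stab : Subgroup (End k M)ˣ where
  carrier := {g | g ∈ G ∧ Pre (cn k g x) x}
  one_mem' := ⟨one_mem _, by rw [cn_one]; exact Pre.refl x⟩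
  mul_mem' := fun hg hh => ⟨mul_mem hg.1 hh.1, by rw [cn_mul]; exact (pre_cn hh.2 _).trans hg.2⟩
  inv_mem' := fun {g} hg => ⟨inv_mem hg.1, by
    have := pre_cn (k := k) (pre_cn_symm hg.2) g⁻¹
    rw [cn_inv_cn] at this
    exact this⟩

variable (G) in
/-- the elements preserving all classes -/
def relG (h2 : (2 : k) ≠ 0) : Subgroup (End k M)ˣ where
  carrier := {g | g ∈ G ∧ ∀ s ∈ LL G, Rel G s (cn k g s)}
  one_mem' := ⟨one_mem _, fun s _ => by rw [cn_one]; exact Rel.refl s⟩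
  mul_mem' := fun hg hh => ⟨mul_mem hg.1 hh.1, fun s hs => by
    rw [cn_mul]; exact (hg.2 s hs).trans ((hh.2 s hs).cn (le_normalizer hg.1))⟩
  inv_mem' := fun {g} hg => ⟨inv_mem hg.1, fun s hs => by
    have := (hg.2 s hs).cn (le_normalizer (inv_mem hg.1))
    rw [cn_inv_cn] at this
    exact this.symm h2 (ll_cn hs (le_normalizer (inv_mem hg.1)))⟩

theorem norm_relG (h2 : (2 : k) ≠ 0) (h : K ≤ 𝐍[G]) : K ≤ 𝐍[relG G h2] :=
  norm_of_forall_cj_le fun g hg => cj_le_iff.2 fun u hu =>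
    ⟨conj_mem_of_norm (h hg) hu.1, fun s hs => by
      have := (hu.2 _ (ll_cn hs (inv_mem (h hg)))).cn (h hg)
      rwa [cn_cn_inv, ← cn_mul, ← cn_mul] at this⟩

theorem exists_good [Finite (End k M)] (hK : K ≤ G) {Ok Good : End k M → Prop}
    (hGood : ∀ x ∈ LL G, ∀ y ∈ LL G, Pre y x → Good x → Good y)
    (hOk : ∀ g ∈ K, ∀ x, Ok x → Ok (cn k g x))
    (hmove : ∀ x ∈ LL G, Ok x → ∃ g ∈ K, Good (cn k g x) ∧
      ∀ z ∈ LL G, ¬ Rel G x z → cn k g z = z) (hX : Trans G X) (h : ∀ x ∈ X, Ok x) :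
    ∃ g ∈ K, ∀ x ∈ X, Good (cn k g x) := by
  induction hn : {x ∈ X | ¬ Good x}.ncard using Nat.strong_induction_on generalizing X with
  | _ n ih =>
  by_cases h0 : ∀ x ∈ X, Good x
  · exact ⟨1, one_mem _, fun x hx => by rw [cn_one]; exact h0 x hx⟩
  push Not at h0
  obtain ⟨x, hx, h1⟩ := h0
  obtain ⟨g, hg, h2, h3⟩ := hmove x (hX.ll x hx) (h x hx)
  have hN := le_normalizer (hK hg)
  have hX' := hX.sm hN
  have key : ∀ y ∈ sm k g X, ¬ Good y → y ∈ X ∧ ¬ Rel G x y := fun y hy h4 => by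
    have h5 : ¬ Rel G x (cn k g⁻¹ y) := fun r => h4 (hGood _ (ll_cn (hX.ll x hx) hN) _ (hX'.ll y hy)
      (cn_cn_inv (k := k) g y ▸ pre_cn (hX.uniq x hx _ hy r) g) h2)
    have h6 := h3 _ (hX.ll _ hy) h5
    rw [cn_cn_inv] at h6
    exact ⟨h6 ▸ hy, h6 ▸ h5⟩
  obtain ⟨g', hg', h4⟩ := ih _ (hn ▸ Set.ncard_lt_ncard (s := {y ∈ sm k g X | ¬ Good y})
    ⟨fun y hy => ⟨(key y hy.1 hy.2).1, hy.2⟩, fun e =>
      (key x (e ⟨hx, h1⟩).1 h1).2 (Rel.refl x)⟩) hX'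
    (fun y hy => cn_cn_inv (k := k) g y ▸ hOk g hg _ (h _ hy)) rfl
  exact ⟨g' * g, mul_mem hg' hg, fun y hy => by rw [cn_mul]; exact h4 _ (cn_mem_sm hy)⟩

end End

section Prime
variable {p : ℕ} [Fact p.Prime] (hp : 5 ≤ p) {M : Type*} [AddCommGroup M] [Module (ZMod p) M]
  [Finite M] {G K S A P : Subgroup (End (ZMod p) M)ˣ} {g u : (End (ZMod p) M)ˣ}
  {s t x y a : End (ZMod p) M}
include hp

theorem qq_relG (hG : HasOpp (ZMod p) G) (hx : x ∈ QQ (ZMod p) G) :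
    x ∈ QQ (ZMod p) (relG G (two_ne hp)) :=
  ⟨hx.1, fun c => ⟨uu _ (QQ.smul hx c).1, ⟨QQ.uu_mem (QQ.smul hx c), fun _ hs =>
    rel_cn_uu hp hG hs (QQ.smul hx c) rfl⟩, rfl⟩⟩

theorem UU_le_syl (hS : Syl p S G) (hs : s ∈ Lam G S) : UU G s ≤ S := by
  haveI := fin_units (p := p) (M := M)
  exact hS.le_of_norm (pg_UU hp) UU_le fun g hg => norm_UU (le_normalizer (hS.le hg)) (hs.2 g hg)

theorem trans_Lam (hG : HasOpp (ZMod p) G) (hR : ∀ g ∈ G, ∀ s ∈ LL G, Rel G s (cn (ZMod p) g s))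
    (hS : Syl p S G) : Trans G (Lam G S) where
  ll _ hx := hx.1
  pre x hx y hy py := ⟨hy, fun g hg =>
    ((pre_cn py g).trans (hx.2 g hg)).trans (LL.pre_symm hx.1 hy.1 hy.2.1 py)⟩
  uniq x hx y hy r := pre_of_norm hp hG hx.1 r fun u hu => hy.2 u (UU_le_syl hp hS hx hu)
  ex y hy := by
    haveI := fin_units (p := p) (M := M)
    obtain ⟨T, h1, hT⟩ := Syl.exists_ge (L := stab G y) (pg_UU (G := G) (α := y) hp)
      fun u hu => ⟨hu.1, by rw [cn_UU hu]; exact Pre.refl y⟩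
    have hT' : Syl p T G := Syl.of_norm hT.pg (fun g hg => (hT.le hg).1) fun P h2 h3 h4 h5 =>
      hT.ge_of_le h2 h3 fun g hg => ⟨h4 hg, pre_of_norm hp hG hy (hR g (h4 hg) y hy) fun u hu => by
        rw [← cn_mul, show u * g = g * (g⁻¹ * u * g) by group, cn_mul]
        exact pre_cn (hT.le (conj_mem_of_norm' (h5 hg) (h1 hu))).2 g⟩
    obtain ⟨g, hg, e⟩ := hT'.conj_eq hS
    refine ⟨cn (ZMod p) g y, ⟨ll_cn hy (le_normalizer hg), fun a ha => ?_⟩,
      (hR g hg y hy).symm (two_ne hp) hy⟩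
    rw [← cn_mul, show a * g = g * (g⁻¹ * a * g) by group, cn_mul]
    exact pre_cn (hT.le (mem_cj.1 (e ▸ ha))).2 g

/-- the equivariant frame: an element of `C_G(A)` maps `Λ` to an opposite transversal -/
theorem exists_frame (hG : HasOpp (ZMod p) G)
    (hR : ∀ g ∈ G, ∀ s ∈ LL G, Rel G s (cn (ZMod p) g s)) (hS : Syl p S G) (hAG : A ≤ 𝐍[G])
    (hAS : A ≤ 𝐍[S]) (hcop : (Nat.card A).Coprime (Nat.card G))
    (hsolv : Group.IsSolvable A ∨ Group.IsSolvable G) :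
    ∃ c ∈ G ⊓ 𝐂[A], ∀ x ∈ Lam G S, ∃ s ∈ Lam G S, s * cn (ZMod p) c x * s ≠ 0 := by
  haveI := fin_units (p := p) (M := M)
  haveI : Finite (End (ZMod p) M) := Finite.of_injective _ DFunLike.coe_injective
  have h2 := two_ne hp
  have h3 := three_lt hp
  have hL := trans_Lam hp hG hR hS
  have inv : ∀ g ∈ 𝐍[G], g ∈ 𝐍[S] → ∀ x, (∃ s ∈ Lam G S, s * x * s ≠ 0) →
      ∃ s ∈ Lam G S, s * cn (ZMod p) g x * s ≠ 0 := fun g h1 h2 x ⟨s, hs, h⟩ =>
    ⟨_, cn_mem_Lam h1 h2 hs, sand_cn.2 h⟩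
  obtain ⟨g, hg, h1⟩ := exists_good (K := G) (Ok := fun _ => True)
    (Good := fun x => ∃ s ∈ Lam G S, s * x * s ≠ 0) le_rfl
    (fun x hx y hy py ⟨s, hs, h⟩ => ⟨s, hs, sand_pre h2 h3 hs.1 hx hy py h⟩) (fun _ _ _ _ => trivial)
    (fun x hx _ => by
      obtain ⟨s, hs, r⟩ := hL.ex x hx
      obtain ⟨t, ht, o⟩ := hG.ll hs.1
      have r1 := ((Rel.of_ne ht (Rel.of_opp ht o.symm)).symm h2 hs.1).trans r
      obtain ⟨g, hg, pg, h⟩ := exists_local hp hG ht r1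
      exact ⟨g, hg, ⟨s, hs, sand_pre h2 h3 hs.1 ht (ll_cn hx (le_normalizer hg)) pg
        (Rel.of_opp ht o.symm)⟩, fun z hz hr => h z hz fun e => hr ((r1.symm h2 ht).trans e)⟩)
    hL fun _ _ => trivial
  have hT := hL.sm (le_normalizer hg)
  have h1' : ∀ x ∈ sm (ZMod p) g (Lam G S), ∃ s ∈ Lam G S, s * x * s ≠ 0 := fun x hx =>
    cn_cn_inv (k := ZMod p) g x ▸ h1 _ hx
  letI := act (ZMod p) (A := End (ZMod p) M)
  obtain ⟨u, hu, h4⟩ := CopAct.glauberman_exists_fixed hAS (CopAct.coprime_mono hcop le_rfl hS.le)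
    (CopAct.solvable_mono hsolv le_rfl hS.le) (ω := g • Lam G S) fun a ha => by
      have hY := hT.sm (hAG ha)
      obtain ⟨u, hu, h⟩ := exists_good (K := S) (Ok := fun x => ∃ s ∈ Lam G S, s * x * s ≠ 0)
        (Good := fun x => x ∈ sm (ZMod p) a (sm (ZMod p) g (Lam G S))) hS.le
        (fun x _ y hy py hx => hY.pre x hx y hy py)
        (fun u hu => inv u (le_normalizer (hS.le hu)) (le_normalizer hu))
        (fun x hx ⟨s, hs, h⟩ => by
          obtain ⟨y, hy, r⟩ := hY.ex x hx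
          have hy' := hY.ll y hy
          obtain ⟨s', hs', h'⟩ := cn_cn_inv (k := ZMod p) a y ▸ inv a (hAG ha) (hAS ha) _ (h1' _ hy)
          have r1 := Rel.of_ne hx h
          have h'' := sand_pre' h2 h3 hs'.1 hy' hs.1 (hL.uniq s' hs' s hs
            (((Rel.of_ne hy' h').trans r).trans (r1.symm h2 hs.1))) h'
          obtain ⟨x', hx', px, o1⟩ := LL.exists_opp h2 h3 hs.1 hx.1 h
          obtain ⟨y', hy'', py, o2⟩ := LL.exists_opp h2 h3 hs.1 hy'.1 h''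
          obtain ⟨u, hu, e⟩ := opp_trans hp o1 o2 hs.1.1 hx'.1 hy''.1
          refine ⟨u, UU_le_syl hp hS hs hu, hY.pre y hy _ (ll_cn hx (le_normalizer hu.1))
            ((e ▸ pre_cn (LL.pre_symm hx hx'.1 hx'.2.1 px) u).trans py), fun z hz hr =>
            cn_of_not_rel h2 h3 hG hs.1 hz (fun e => hr ((r1.symm h2 hs.1).trans e)) hu⟩) hT h1'
      exact ⟨u, hu, ((hT.sm (le_normalizer (hS.le hu))).eq hY fun x hx =>
        cn_cn_inv (k := ZMod p) u x ▸ h _ hx).symm⟩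
  simp only [← mul_smul u g] at h4
  obtain ⟨c, hc, e⟩ := CopAct.glauberman_conj hAG hcop hsolv (ω := Lam G S)
    (fun a ha => sm_eq_of (fun g hg x hx => cn_mem_Lam (hAG hg) (hAS hg) hx) ha)
    (mul_mem (hS.le hu) hg) h4
  refine ⟨c, hc, fun x hx => ?_⟩
  have h5 : cn (ZMod p) c x ∈ (u * g) • Lam G S := e ▸ cn_mem_sm hx
  have := inv u (le_normalizer (hS.le hu)) (le_normalizer hu) _ (h1 _ h5)
  rwa [← cn_mul, cn_cn_inv] at this

theorem quad_aux (n : ℕ) : ∀ {G P : Subgroup (End (ZMod p) M)ˣ}, Nat.card G = n →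
    HasOpp (ZMod p) G → A ≤ 𝐍[G] → (Nat.card A).Coprime (Nat.card G) →
    Group.IsSolvable A ∨ Group.IsSolvable G → P ≤ G → IsPGroup p P → A ≤ 𝐍[P] →
    G ⊓ 𝐂[A] ≤ 𝐍[P] → ∀ a ∈ QQ (ZMod p) P, a = 0 := by
  haveI := fin_units (p := p) (M := M)
  have h2 := two_ne hp
  have h3 := three_lt hp
  induction n using Nat.strong_induction_on with
  | _ n ih =>
  intro G P hn hG hAG hcop hsolv hPG hP hA hC a ha
  have IH : ∀ H < G, HasOpp (ZMod p) H → A ≤ 𝐍[H] → a ∈ QQ (ZMod p) H → a = 0 :=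
    fun H lt h1 h4 h5 => ih _ (hn ▸ PG.card_lt_of_lt lt) (P := P ⊓ H) rfl h1 h4
      (CopAct.coprime_mono hcop le_rfl lt.le) (CopAct.solvable_mono hsolv le_rfl lt.le)
      inf_le_right (hP.to_inf_left) (norm_inf hA h4)
      (norm_inf ((inf_le_inf_right _ lt.le).trans hC) (norm_of_le inf_le_left)) a
      ⟨ha.1, fun c => ⟨_, ⟨QQ.uu_mem (QQ.smul ha c), QQ.uu_mem (QQ.smul h5 c)⟩, rfl⟩⟩
  have le1 : relG G h2 ≤ G := fun _ h => h.1
  rcases le1.lt_or_eq with lt | e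
  · exact IH _ lt (fun x hx h0 => by
      obtain ⟨y, hy, o⟩ := hG x (QQ.mono hx le1) h0
      exact ⟨y, qq_relG hp hG hy, o⟩) (norm_relG h2 hAG) (qq_relG hp hG (QQ.mono ha hPG))
  have hR : ∀ g ∈ G, ∀ s ∈ LL G, Rel G s (cn (ZMod p) g s) := fun g hg => (e.ge hg).2
  obtain ⟨S', hPS, hAS⟩ := CopAct.exists_invariant_sylow_ge hAG hcop hsolv hPG hP hA
  have hS := Syl.of_sylow_sub S'
  generalize (S' : Subgroup G).map G.subtype = S at *
  have hL := trans_Lam hp hG hR hS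
  obtain ⟨c, hc, hf⟩ := exists_frame hp hG hR hS hAG hAS hcop hsolv
  obtain ⟨hc1, hc2⟩ := mem_inf.1 hc
  have hT := hL.sm (le_normalizer hc1)
  let X : Set (End (ZMod p) M) := {h | ∃ s ∈ Lam G S, ∃ t ∈ sm (ZMod p) c (Lam G S),
    Opp s t ∧ h = hv (ZMod p) s t 2}
  let D : Subgroup (End (ZMod p) M)ˣ := closure {h | h.1 ∈ X}
  have hX : ∀ x ∈ X, ∃ h ∈ G, h.1 = x := fun x ⟨s, hs, t, ht, o, e⟩ => by
    obtain ⟨h, hh, e', -⟩ := exists_h o hs.1.1 (hT.ll t ht).1 h2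
    exact ⟨h, hh, e'.trans e.symm⟩
  have hDG : D ≤ G := (closure_le _).2 fun h hh => by
    obtain ⟨h', h1, e⟩ := hX _ hh
    exact Units.ext e ▸ h1
  have hXX : ∀ x ∈ X, ∀ y ∈ X, x * y = y * x := by
    rintro _ ⟨s, hs, t, ht, o, rfl⟩ _ ⟨s', hs', t', ht', o', rfl⟩
    have r := Rel.of_ne (hT.ll t ht) (Rel.of_opp (hT.ll t ht) o.symm)
    have r' := Rel.of_ne (hT.ll t' ht') (Rel.of_opp (hT.ll t' ht') o'.symm)
    by_cases h : Rel G s s'
    · have r1 := ((r.symm h2 hs.1).trans h).trans r'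
      rw [hv, hv, idem_eq o o' (hL.uniq s' hs' s hs (h.symm h2 hs.1)) (hT.uniq t ht t' ht' r1),
        idem_eq o.symm o'.symm (hT.uniq t' ht' t ht (r1.symm h2 (hT.ll t ht))) (hL.uniq s hs s' hs' h)]
    · have c1 : ∀ y, Rel G s y → ∀ z, Rel G s' z → y * z = z * y := fun y hy z hz =>
        comm_of_not_rel h2 h3 hG (hy.ll hs.1) (hz.ll hs'.1) fun e =>
          h ((hy.trans e).trans (hz.symm h2 hs'.1))
      exact comm_hv (comm_hv (c1 _ (Rel.refl s) _ (Rel.refl s')).symm (c1 _ r _ (Rel.refl s')).symm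
        _).symm (comm_hv (c1 _ (Rel.refl s) _ r').symm (c1 _ r _ r').symm _).symm _
  have hDD : D ≤ 𝐂[D] := by
    have : D ≤ centralizer {h | h.1 ∈ X} := (closure_le _).2 fun g hg h hh =>
      Units.ext (hXX _ hh _ hg)
    exact (closure_le _).2 fun h hh => mem_cent.2 fun g hg => (this hg h hh).symm
  have hDp : ∀ d ∈ D, d ^ (p - 1) = 1 := fun d hd => by
    induction hd using closure_induction with
    | mem h hh =>
      obtain ⟨s, hs, t, ht, o, e⟩ := hh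
      apply Units.ext
      rw [Units.val_pow_eq_pow_val, e, hv_pow o hs.1.1.1 (hT.ll t ht).1.1 h2,
        ZMod.pow_card_sub_one_eq_one h2]; simp [hv]
    | one => exact one_pow _
    | mul g h hg hh e1 e2 =>
      rw [Commute.mul_pow (mem_cent.1 (hDD hh) g hg), e1, e2, one_mul]
    | inv g _ e => rw [inv_pow, e, inv_one]
  have hDc : (Nat.card D).Coprime p := by
    rw [Nat.coprime_comm, (Fact.out : p.Prime).coprime_iff_not_dvd]
    intro hd
    obtain ⟨d, hd⟩ := exists_prime_orderOf_dvd_card' p hd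
    have := orderOf_dvd_of_pow_eq_one (show d ^ (p - 1) = 1 from Subtype.ext (hDp d d.2))
    have := Nat.le_of_dvd (by omega) (hd ▸ this)
    omega
  by_contra h0
  obtain ⟨x, hx⟩ := exists_ll (QQ.mono ha hPG) h0
  obtain ⟨x', hx', -⟩ := hL.ex x hx
  obtain ⟨s, hs, h1⟩ := hf x' hx'
  have m1 := cn_mem_sm (k := ZMod p) (g := c) hx'
  obtain ⟨t, ht, pt, o⟩ := LL.exists_opp h2 h3 hs.1 (hT.ll _ m1).1 h1
  have aL : ∀ b ∈ QQ (ZMod p) P, ∀ y ∈ Lam G S, b * y = y * b := fun b hb y hy =>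
    comm_of_norm' h2 hy.1 (QQ.mono hb hPG) (val_uu hb.1) (hy.2 _ (hPS (QQ.uu_mem hb)))
  refine h0 (IH (fixG (ZMod p) G X) (lt_of_le_of_ne fixG_le fun e => ?_) (fun β hβ hβ0 => ?_)
    (norm_fixG hAG ?_) (qq_fixG (QQ.mono ha hPG) ?_))
  · have h4 := comm_of_fixG (X := X) (e.symm ▸ hs.1.1) ⟨s, hs, t, hT.pre _ m1 t ht pt, o, rfl⟩
    have h5 := hv_conj_self (k := ZMod p) o hs.1.1.1 (c := 2)
    rw [← h4, mul_assoc, hv_mul o hs.1.1.1 ht.1.1 h2 (inv_ne_zero h2), mul_inv_cancel₀ h2] at h5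
    have h6 : (3 : ZMod p) • s = 0 := by
      rw [show (3 : ZMod p) = 2 * 2 - 1 by norm_num, sub_smul, ← h5]; simp [hv]
    exact hs.1.2.1 ((smul_eq_zero.1 h6).resolve_left (three_ne hp))
  · obtain ⟨γ, hγ, o⟩ := hG β (QQ.mono hβ fixG_le) hβ0
    obtain ⟨γ', hγ', o', h4⟩ := opp_cent hp o (QQ.mono hβ fixG_le) hγ (hDG.trans le_normalizer) hDc
      fun d hd => (((closure_le (fixG (ZMod p) ⊤ {β})).2 fun h hh => ⟨mem_top _, by
        rintro _ rfl; exact cn_eq_self.2 (comm_of_fixG hβ hh).symm⟩) hd).2 β rfl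
    refine ⟨γ', qq_fixG hγ' fun y hy => ?_, o'⟩
    obtain ⟨h, -, rfl⟩ := hX y hy
    exact (cn_eq_self.1 (h4 h (subset_closure hy))).symm
  · rintro g hg _ ⟨s, hs, t, ht, o, rfl⟩
    refine ⟨_, cn_mem_Lam (hAG hg) (hAS hg) hs, cn (ZMod p) g t, ?_, opp_cn o g, cn_hv _⟩
    change cn (ZMod p) c⁻¹ _ ∈ Lam G S
    rw [← cn_mul, ← mem_cent.1 (inv_mem hc2) g hg, cn_mul]
    exact cn_mem_Lam (hAG hg) (hAS hg) ht
  · rintro _ ⟨s, hs, t, ht, o, rfl⟩
    refine comm_hv (aL a ha s hs) (cn_inj (k := ZMod p) (g := c⁻¹) ?_) _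
    rw [map_mul, map_mul]
    exact aL _ (qq_cn ha (inv_mem (hC hc))) _ ht

end Prime

end Cfsg.Agent.Flav.Qd
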