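import Mathlib
import Cfsg.Agent.Chev.TimDec
import Cfsg.Agent.Loc.MssBase
import Cfsg.Agent.Flav.QuadD

/-! # No quadratic elements in `O_p(G; A)` -/

set_option autoImplicit false
open Cfsg Subgroup Module

namespace Cfsg.Agent.Flav
open Cfsg.Agent.Chev.Tim Cfsg.Agent.Loc.Mss

theorem quad_lin {p : ℕ} [Fact p.Prime] (hp : 5 ≤ p) {M : Type*} [AddCommGroup M]
    [Module (ZMod p) M] [Finite M] {G A P : Subgroup (End (ZMod p) M)ˣ}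
    (hG : NoUnip (ZMod p) G) (hAG : A ≤ 𝐍[G]) (hcop : (Nat.card A).Coprime (Nat.card G))
    (hsolv : Group.IsSolvable A ∨ Group.IsSolvable G) (hPG : P ≤ G) (hP : IsPGroup p P)
    (hA : A ≤ 𝐍[P]) (hC : G ⊓ 𝐂[A] ≤ 𝐍[P]) {g : (End (ZMod p) M)ˣ} (hg : g ∈ P)
    (hq : ((g : End (ZMod p) M) - 1) * ((g : End (ZMod p) M) - 1) = 0) : g = 1 :=
  Units.ext (sub_eq_zero.1 (Qd.quad_aux hp _ rfl (Qd.hasOpp_of_noUnip hp hG) hAG hcop hsolv hPG hP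
    hA hC _ (Qd.qq_of_inU hq ⟨g, hg, by simp⟩)))

end Cfsg.Agent.Flav
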