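import Mathlib
import Cfsg.Agent.Flav.QuadLin
import Cfsg.Agent.Loc.CFGlaub
import Cfsg.Agent.Loc.MssSyl
import Cfsg.Agent.GT.ElemAbRep

/-! # The equivariant `K^∞`-theorem -/

set_option autoImplicit false
open Cfsg Subgroup
open scoped commutatorElement

namespace Cfsg.Agent.Flav
open Cfsg.Agent.GT Cfsg.Agent.Loc.Mss

universe u

/-- `P` is a `p`-subgroup of `Y` normalized by `A` and `C_Y(A)`, where `A` acts coprimely on `Y`. -/
structure EqP {Ω : Type*} [Group Ω] (p : ℕ) (Y A P : Subgroup Ω) : Prop where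
  ay : A ≤ 𝐍[Y]
  cop : (Nat.card A).Coprime (Nat.card Y)
  solv : Group.IsSolvable A ∨ Group.IsSolvable Y
  le : P ≤ Y
  pg : IsPGroup p P
  ap : A ≤ 𝐍[P]
  cp : Y ⊓ 𝐂[A] ≤ 𝐍[P]

theorem EqP.map_hom {X H : Type*} [Group X] [Finite X] [Group H] {p : ℕ} {Y A P : Subgroup X}
    (h : EqP p Y A P) (f : X →* H) : EqP p (Y.map f) (A.map f) (P.map f) where
  ay := map_norm_le f h.ay
  cop := (h.cop.coprime_dvd_left (card_map_dvd A f)).coprime_dvd_right (card_map_dvd Y f)
  solv := by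
    rcases h.solv with h1 | h1
    · exact Or.inl (Group.isSolvable_of_surjective (f.subgroupMap_surjective A))
    · exact Or.inr (Group.isSolvable_of_surjective (f.subgroupMap_surjective Y))
  le := map_mono h.le
  pg := h.pg.map f
  ap := map_norm_le f h.ap
  cp := by
    rw [← CopAct.map_inf_centralizer' f h.ay h.cop h.solv]
    exact map_norm_le f h.cp

theorem EqP.sub_of {X : Type*} [Group X] {p : ℕ} {Y A P L : Subgroup X} (h : EqP p Y A P)
    (hY : Y ≤ L) (hA : A ≤ L) : EqP p (Y.subgroupOf L) (A.subgroupOf L) (P.subgroupOf L) where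
  ay := comap_norm_le _ h.ay
  cop := by
    rw [Nat.card_congr (subgroupOfEquivOfLe hA).toEquiv,
      Nat.card_congr (subgroupOfEquivOfLe hY).toEquiv]
    exact h.cop
  solv := by
    rcases h.solv with h1 | h1
    · exact Or.inl (Group.isSolvable_of_isSolvable_injective
        (f := (subgroupOfEquivOfLe hA).toMonoidHom) (subgroupOfEquivOfLe hA).injective)
    · exact Or.inr (Group.isSolvable_of_isSolvable_injective
        (f := (subgroupOfEquivOfLe hY).toMonoidHom) (subgroupOfEquivOfLe hY).injective)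
  le := comap_mono h.le
  pg := h.pg.comap_subtype
  ap := comap_norm_le _ h.ap
  cp := by
    rw [cent_subgroupOf hA]
    exact comap_norm_le _ h.cp

/-- An element of `P` that is quadratic on a chief factor of `X = YA` acts trivially on it. -/
theorem EqP.quad_chief {X : Type*} [Group X] [Finite X] {p : ℕ} [Fact p.Prime] (hp : 5 ≤ p)
    {Y A P : Subgroup X} (h : EqP p Y A P) (hX : Y ⊔ A = ⊤) {U V : Subgroup X}
    (hUV : IsChiefFactor U V) (hU : IsPGroup p U) {g : X} (hg : g ∈ P)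
    (hq : ⁅⁅U, zpowers g⁆, zpowers g⁆ ≤ V) : ⁅U, zpowers g⁆ ≤ V := by
  have := hUV.2.2.1
  have hM := hUV.isMinNormal_map
  have := hM.normal
  have hE := hM.elementary_of_isPGroup Fact.out (hU.map _)
  have hT : (⊤ : Subgroup (X ⧸ V)) ≤ 𝐍[U.map (QuotientGroup.mk' V)] := le_normalizer_of_normal
  let ρ : X →* (Module.End (ZMod p) (EAV hE))ˣ := (eaRep hE hT).toHomUnits.comp
    ((QuotientGroup.mk' V).codRestrict ⊤ fun _ => mem_top _)
  have hρ : ∀ x, (ρ x : Module.End (ZMod p) (EAV hE)) =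
      eaRep hE hT ⟨QuotientGroup.mk' V x, mem_top _⟩ := fun _ => rfl
  have h1 : IsIrreducibleFor ρ.range := by
    obtain ⟨⟨u, hu⟩, hu1⟩ := ne_bot_iff_exists_ne_one.1 hM.ne_bot
    refine ⟨⟨EAV.mk hE u hu, fun e => hu1 (Subtype.ext (EAV.val_eq_one_iff.2 e))⟩, fun W hW => ?_⟩
    have : (EAV.grp W).Normal := normal_of_top_le_normalizer (le_normalizer_grp (hHV := hT)
      fun ⟨x, _⟩ w hw => by
        obtain ⟨x, rfl⟩ := QuotientGroup.mk'_surjective V x
        exact hW (ρ x) ⟨x, rfl⟩ w hw)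
    exact (hM.eq_bot_or_eq (EAV.grp_le W)).imp (fun e => EAV.grp_injective (e.trans EAV.grp_bot.symm))
      fun e => EAV.grp_injective (e.trans EAV.grp_top.symm)
  have h2 := h.map_hom ρ
  have h3 : ρ.range ≤ 𝐍[Y.map ρ] := by
    rw [MonoidHom.range_eq_map, ← hX, Subgroup.map_sup]
    exact sup_le le_normalizer h2.ay
  have h4 := quad_lin hp ((Chev.Tim.noUnip_of_irreducible h1).of_normal (map_le_range ρ Y)
    fun x hx => cj_of_norm (h3 hx)) h2.ay h2.cop h2.solv h2.le h2.pg h2.ap h2.cp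
    (mem_map_of_mem ρ hg) (by
      rw [hρ]
      refine eaRep_quadratic (A := zpowers (QuotientGroup.mk' V g))
        (B := zpowers (QuotientGroup.mk' V g)) ?_ (mem_zpowers _) (mem_zpowers _)
      rw [← MonoidHom.map_zpowers, ← map_commutator, ← map_commutator, map_mk'_eq_bot_iff]
      exact hq)
  rw [commutator_le_iff_map_mk', MonoidHom.map_zpowers, CopAct.commutator_eq_bot_iff, zpowers_le]
  exact (eaRep_eq_one_iff (hHV := hT) (h := ⟨_, mem_top _⟩)).1 (by rw [← hρ, h4, Units.val_one])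

open Loc.CF in
/-- Glauberman's local analysis relative to a normal `p`-subgroup `T`. -/
theorem exists_quad_chief {G : Type*} [Group G] [Finite G] {p : ℕ} [Fact p.Prime]
    {A B T : Subgroup G} [A.Normal] (hAp : IsPGroup p A) (hA : A ∈ classTwoSubgroups G)
    (hTA : ⁅T, A⁆ ≤ zc A) (hD : B ⊓ chiefStab A ≤ T) (hBT : ¬ B ≤ T)
    (hB : B ∈ kUpperStarFamily A ∨ B ∈ kLowerStarFamily A ∨
      (A ≤ normalizer (B : Set G) ∧ ⁅A, ⁅B, B⁆⁆ = ⊥ ∧ ⁅⁅zc A, B⁆, B⁆ = ⊥)) :
    ∃ g ∈ B, ∃ U V : Subgroup G, IsChiefFactor U V ∧ U ≤ A ∧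
      ⁅⁅U, zpowers g⁆, zpowers g⁆ ≤ V ∧ ¬ ⁅U, zpowers g⁆ ≤ V := by
  have mono2 : ∀ {U V X : Subgroup G} {g : G}, g ∈ X → ⁅⁅U, X⁆, X⁆ ≤ V →
      ⁅⁅U, zpowers g⁆, zpowers g⁆ ≤ V := fun hg h =>
    (commutator_mono (commutator_mono le_rfl (zpowers_le.2 hg)) (zpowers_le.2 hg)).trans h
  have finish : ∀ X : Subgroup G, X ≤ B → ¬ X ≤ T → (∀ U V : Subgroup G, IsChiefFactor U V →
      U ≤ A → ⁅⁅U, X⁆, X⁆ ≤ V) → ∃ g ∈ B, ∃ U V : Subgroup G, IsChiefFactor U V ∧ U ≤ A ∧
      ⁅⁅U, zpowers g⁆, zpowers g⁆ ≤ V ∧ ¬ ⁅U, zpowers g⁆ ≤ V := by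
    intro X h1 h2 h
    obtain ⟨g, hg1, hg2⟩ := SetLike.not_le_iff_exists.1 h2
    by_contra h3
    push Not at h3
    exact hg2 (hD ⟨h1 hg1, mem_chiefStab.2 fun U V h4 h5 =>
      h3 g (h1 hg1) U V h4 h5 (mono2 hg1 (h U V h4 h5))⟩)
  rcases hB with hB | hB | ⟨h1, h2, h3⟩
  · refine finish B le_rfl hBT fun U V _ h => (commutator_mono (commutator_mono h le_rfl)
      le_rfl).trans (le_trans (le_of_eq ?_) bot_le)
    rw [commutator_comm A]
    exact commutator_eq_bot_iff_le_centralizer.2 (hB.2.trans inf_le_right)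
  swap
  · refine finish B le_rfl hBT fun U V h4 h5 => chief_iter_le (n := 2) (Z := zc A) h4
      ((commutator_mono (commutator_mono inf_le_right le_rfl) le_rfl).trans (h3.le.trans bot_le))
      ((commutator_mono (commutator_mono h5 le_rfl) le_rfl).trans (le_inf ?_ ?_))
    · exact (commutator_mono (commutator_le_left A B) le_rfl).trans (commutator_le_left A B)
    · exact (commutator_mono (le_normalizer_iff_commutator_le_right.1 h1) le_rfl).trans
        (CopAct.commutator_eq_bot_iff.1 h2)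
  by_cases hZ : ¬ zc B ≤ T
  · refine finish (zc B) inf_le_left hZ fun U V _ h => (commutator_mono (commutator_mono h le_rfl)
      le_rfl).trans (le_trans (le_of_eq (commutator_eq_bot_iff_le_centralizer.2 ?_)) bot_le)
    exact (le_normalizer_iff_commutator_le_right.1
      (hB.2.1.trans (normalizer_le_normalizer_zc B))).trans
      (inf_le_right.trans (centralizer_le (SetLike.coe_subset_coe.2 inf_le_left)))
  rw [not_not] at hZ
  by_cases hBD : B ≤ chiefStab (zc A)
  · exact finish B le_rfl hBT fun U V h3 h4 => quadratic_of_mem_kLower hAp hA hB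
      ((commutator_mono hZ le_rfl).trans hTA) hBD h3 h4
  have hZA : zc A ≤ centralizer ((zc A : Subgroup G) : Set G) :=
    inf_le_right.trans (centralizer_le (SetLike.coe_subset_coe.2 inf_le_left))
  have h1 : ⁅⁅zc A, B⁆, B⁆ = ⊥ := by
    rw [commutator_comm (zc A)]
    refine commutator_eq_bot_iff_le_centralizer.2 (le_trans (hB.2.2 (zc A)
      ((commutator_le_self _).trans hZA) inf_le_left le_normalizer_of_normal ?_ ?_) inf_le_right)
    · rw [commutator_eq_bot_iff_le_centralizer.2 hZA, commutator_bot_right]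
    · exact commutator_eq_bot_iff_le_centralizer.2 ((commutator_le_right _ _).trans hZA)
  obtain ⟨g, hg1, hg2⟩ := SetLike.not_le_iff_exists.1 hBD
  rw [mem_chiefStab] at hg2
  push Not at hg2
  obtain ⟨U, V, h3, h4, h5⟩ := hg2
  exact ⟨g, hg1, U, V, h3, h4.trans inf_le_left, mono2 hg1 ((commutator_mono
    (commutator_mono h4 le_rfl) le_rfl).trans (h1.le.trans bot_le)), h5⟩

open Loc.CF in
theorem EqP.kInf_normal_top {X : Type u} [Group X] [Finite X] {p : ℕ} [Fact p.Prime] (hp : 5 ≤ p)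
    {Y A P : Subgroup X} (h : EqP p Y A P) (hX : Y ⊔ A = ⊤) (hO : pCoreOf p Y ≤ P)
    {Y₂ : Subgroup X} [Y₂.Normal] (h1 : P ≤ Y₂) (h2 : Y₂ ≤ Y)
    (h5 : ∀ g ∈ Y₂, (orderOf g).Coprime p → g ∈ 𝐂[pCoreOf p Y] → g ∈ 𝐂[Y₂]) :
    (inducedFunctor kInfUpper P).Normal := by
  set T := pCoreOf p Y with hT
  have : T.Normal := normal_of_top_le_normalizer
    (norm_core (hX ▸ sup_le le_normalizer h.ay))
  obtain ⟨C, hC1, hC2, hC3, -, hC5⟩ := exists_critical T (pg_core Y)
  have hCp : IsPGroup p C := (pg_core Y).to_le hC2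
  have hC : C ∈ classTwoSubgroups X := (commutator_mono hC2 le_rfl).trans (hC3.trans inf_le_right)
  have := chiefStab_normal C
  have hD : P ⊓ chiefStab C ≤ T := by
    have h6 : PCl p (Y₂ ⊓ chiefStab C) := pCl_of_res_le_cent (res_le_of_pow fun x hx =>
      let ⟨k, hk⟩ := Tr.exists_pow_coprime_orderOf (p := p) x
      ⟨k, cent_anti inf_le_left (h5 _ (pow_mem hx.1 _) hk
        (hC5 _ hk (mem_centralizer_of_mem_chiefStab hCp (pow_mem hx.2 _) hk)))⟩)
    exact (h6 _ (inf_le_inf_right _ h1) h.pg.to_inf_left).trans (le_pCoreOf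
      ((pCoreOf_le _).trans (inf_le_left.trans h2)) (norm_core le_normalizer_of_normal) (pg_core _))
  by_contra hK
  have hi := P.subtype_injective
  have hC' : (C.subgroupOf P).map P.subtype = C := map_subtype_subgroupOf_of_le (hC2.trans hO)
  have hT' : (T.subgroupOf P).map P.subtype = T := map_subtype_subgroupOf_of_le hO
  obtain ⟨B, hB1, hB2⟩ := exists_kSeq_witness (P := P) (T := T.subgroupOf P) (A := C.subgroupOf P)
    ((map_mem_classTwo hi).1 (by rwa [hC']))
    (by rw [← map_le_map_iff_of_injective hi, map_commutator, map_zc hi, hC', hT', commutator_comm]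
        exact hC3) (fun h6 => by
      obtain ⟨-, h7⟩ := map_kInf (inclusion_injective hO) (by rwa [inclusion_range])
      have h8 : inducedFunctor kInfUpper P = inducedFunctor kInfUpper T := by
        rw [inducedFunctor, ← h7, map_map]; rfl
      exact hK (h8 ▸ normal_of_top_le_normalizer (le_normalizer_of_normal.trans
        ((isConjugacyFunctor_induced isCharPFunctor_kInfUpper).normalizer_le (pg_core Y)))))
  obtain ⟨g, hg, U, V, h6, h7, h8, h9⟩ := exists_quad_chief (B := B.map P.subtype) hCp hC hC3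
    ((inf_le_inf_right _ (map_subtype_le B)).trans hD)
    (by rwa [← hT', map_le_map_iff_of_injective hi]) (by
      rw [← hC', map_mem_kUpper hi, map_mem_kLower hi, map_le_normalizer_iff hi, ← map_zc hi]
      simpa only [← map_commutator, map_eq_bot_iff_of_injective _ hi] using hB2)
  exact h9 (h.quad_chief hp hX h6 (hCp.to_le h7) (map_subtype_le B hg) h8)

/-- Flavell's equivariant ZJ-theorem with a weak constraint hypothesis: `P ≤ Y₂ ⊴ YA` and the
`p'`-elements of `Y₂` centralizing `O_p(Y)` are central in `Y₂`. -/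
theorem EqP.kInf_normal {Ω : Type u} [Group Ω] [Finite Ω] {p : ℕ} [Fact p.Prime] (hp : 5 ≤ p)
    {Y A P : Subgroup Ω} (h : EqP p Y A P) (hO : pCoreOf p Y ≤ P) {Y₂ : Subgroup Ω}
    (h1 : P ≤ Y₂) (h2 : Y₂ ≤ Y) (h3 : Y ≤ 𝐍[Y₂]) (h4 : A ≤ 𝐍[Y₂])
    (h5 : ∀ g ∈ Y₂, (orderOf g).Coprime p → g ∈ 𝐂[pCoreOf p Y] → g ∈ 𝐂[Y₂]) :
    Y ≤ 𝐍[inducedFunctor kInfUpper P] := by
  have hY : Y ≤ Y ⊔ A := le_sup_left
  have : (Y₂.subgroupOf (Y ⊔ A)).Normal :=
    (normal_subgroupOf_iff_le_normalizer (h2.trans hY)).2 (sup_le h3 h4)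
  have h6 := h.sub_of hY le_sup_right
  have := h6.kInf_normal_top hp (by rw [← subgroupOf_sup hY le_sup_right, subgroupOf_self])
    (Y₂ := Y₂.subgroupOf (Y ⊔ A))
    (by rw [pCoreOf_subgroupOf_of_le hY]; exact comap_mono hO) (comap_mono h1) (comap_mono h2)
    fun g hg h7 h8 => by
      rw [pCoreOf_subgroupOf_of_le hY, cent_subgroupOf ((pCoreOf_le Y).trans hY)] at h8
      rw [cent_subgroupOf (h2.trans hY)]
      exact h5 g hg (by rwa [orderOf_coe]) h8
  rw [← map_subtype_subgroupOf_of_le (h.le.trans hY), ← Loc.CF.map_induced_of_injective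
    Loc.CF.isCharPFunctor_kInfUpper h6.pg (subtype_injective _)]
  exact hY.trans (le_normalizer_map_subtype _ _)

end Cfsg.Agent.Flav
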